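/-
Glauberman correspondence for a `p`-group `P` acting on a finite group `G` of order prime to `p`,
by congruences (namespace `Cfsg.Agent.GlauberChar`).

* `fixedSub φ`, `IsFixed φ χ`, `mult φ χ β` (multiplicity of `β` in `χ` restricted to the fixed points)
* `exists_fixed_of_irr`, `exists_irr_of_fixed`, `fixed_unique`, `irr_unique`, `mult_sq_modEq_one`
* `fixedEquiv` : fixed irreducibles ≃ irreducibles of the fixed subgroup
* `classEquiv` : fixed classes ≃ classes of the fixed subgroup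
-/
import Cfsg.Agent.Lib.Char.Induced
import Cfsg.Agent.Lib.Char.Integral

set_option autoImplicit false

namespace Cfsg.Agent.GlauberChar

open Cfsg Cfsg.Agent.Char
open scoped ComplexConjugate

/-! ### Congruences of algebraic integers -/

/-- `a` and `b` differ by `p` times an algebraic integer. -/
def Cong (p : ℕ) (a b : ℂ) : Prop := IsIntegral ℤ ((a - b) / (p : ℂ))

theorem Cong.rfl' {p : ℕ} (a : ℂ) : Cong p a a := by
  rw [Cong, sub_self, zero_div]; exact isIntegral_zero

theorem Cong.symm {p : ℕ} {a b : ℂ} (h : Cong p a b) : Cong p b a := by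
  rw [Cong, ← neg_sub, neg_div]; exact IsIntegral.neg h

theorem Cong.trans {p : ℕ} {a b c : ℂ} (h : Cong p a b) (h' : Cong p b c) : Cong p a c := by
  rw [Cong, ← sub_add_sub_cancel a b c, add_div]; exact IsIntegral.add h h'

theorem Cong.mul_right {p : ℕ} {a b c : ℂ} (h : Cong p a b) (hc : IsIntegral ℤ c) :
    Cong p (a * c) (b * c) := by
  rw [Cong, ← sub_mul, mul_div_right_comm]; exact IsIntegral.mul h hc

theorem Cong.mul_left {p : ℕ} {a b c : ℂ} (h : Cong p a b) (hc : IsIntegral ℤ c) :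
    Cong p (c * a) (c * b) := by
  rw [mul_comm c a, mul_comm c b]; exact Cong.mul_right h hc

theorem Cong.sum {p : ℕ} {ι : Type*} (s : Finset ι) {f g : ι → ℂ}
    (h : ∀ i ∈ s, Cong p (f i) (g i)) : Cong p (∑ i ∈ s, f i) (∑ i ∈ s, g i) := by
  rw [Cong, ← Finset.sum_sub_distrib, Finset.sum_div]
  exact IsIntegral.sum _ h

theorem int_dvd_of_cong {p : ℕ} (hp : p ≠ 0) {a b : ℤ} (h : Cong p (a : ℂ) (b : ℂ)) :
    (p : ℤ) ∣ a - b := by
  rw [Cong] at h
  have hq : IsIntegral ℤ (((a - b : ℤ) : ℚ) / (p : ℚ)) := by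
    rw [← isIntegral_algebraMap_iff (B := ℂ) (algebraMap ℚ ℂ).injective]
    simpa using h
  obtain ⟨z, hz⟩ := IsIntegrallyClosed.isIntegral_iff.1 hq
  refine ⟨z, ?_⟩
  have : (((a - b : ℤ) : ℚ)) = (p : ℚ) * (z : ℚ) := by
    rw [show ((z : ℤ) : ℚ) = ((a - b : ℤ) : ℚ) / p from hz, mul_div_cancel₀ _ (Nat.cast_ne_zero.2 hp)]
  exact_mod_cast this

theorem isIntegral_natCast' (n : ℕ) : IsIntegral ℤ (n : ℂ) := by
  rw [show (n : ℂ) = algebraMap ℤ ℂ (n : ℤ) from by simp]
  exact isIntegral_algebraMap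

/-- A sum over an invariant function agrees with the sum over the fixed points. -/
theorem cong_sum_fixed {p : ℕ} [Fact p.Prime] {P : Type*} [Group P] (hP : IsPGroup p P) [Finite P]
    {X : Type*} [Fintype X] [DecidableEq X] [MulAction P X]
    [DecidablePred (fun x : X => ∀ s : P, s • x = x)] (f : X → ℂ)
    (hint : ∀ x, IsIntegral ℤ (f x)) (hinv : ∀ (s : P) (x : X), f (s • x) = f x) :
    Cong p (∑ x, f x) (∑ x ∈ Finset.univ.filter (fun x => ∀ s : P, s • x = x), f x) := by
  classical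
  have hsplit := Finset.sum_filter_add_sum_filter_not (Finset.univ : Finset X)
    (fun x => ∀ s : P, s • x = x) f
  rw [Cong, ← hsplit, add_sub_cancel_left]
  let q : X → MulAction.orbitRel.Quotient P X := Quotient.mk''
  rw [← Finset.sum_fiberwise _ q f, Finset.sum_div]
  refine IsIntegral.sum _ fun j _ => ?_
  obtain ⟨x₀, rfl⟩ := Quotient.mk''_surjective j
  set s := (Finset.univ.filter fun x => ¬ ∀ s : P, s • x = x).filter (fun x => q x = q x₀) with hs
  by_cases hfix : ∀ t : P, t • x₀ = x₀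
  · have : s = ∅ := by
      refine Finset.eq_empty_of_forall_notMem fun x hx => ?_
      simp only [hs, Finset.mem_filter, Finset.mem_univ, true_and] at hx
      obtain ⟨t, ht⟩ := (MulAction.orbitRel_apply (G := P)).1 (Quotient.eq''.1 hx.2)
      exact hx.1 (fun u => by rw [← ht]; show u • t • x₀ = t • x₀; rw [hfix t, hfix u])
    rw [this]; simp [isIntegral_zero]
  · have hmem : ∀ x, x ∈ s ↔ x ∈ MulAction.orbit P x₀ := by
      intro x
      simp only [hs, Finset.mem_filter, Finset.mem_univ, true_and]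
      refine ⟨fun h => MulAction.orbitRel_apply.1 (Quotient.eq''.1 h.2),
        fun h => ⟨fun hx => hfix ?_, Quotient.eq''.2 (MulAction.orbitRel_apply.2 h)⟩⟩
      obtain ⟨t, ht⟩ := h
      intro u
      have h1 : x = x₀ := (hx t⁻¹).symm.trans (by rw [← ht]; exact inv_smul_smul t x₀)
      rw [← h1]; exact hx u
    have hval : ∀ x ∈ s, f x = f x₀ := fun x hx => by
      obtain ⟨t, rfl⟩ := (hmem x).1 hx; exact hinv t x₀
    rw [Finset.sum_congr rfl hval, Finset.sum_const, nsmul_eq_mul]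
    have hcard : s.card = Nat.card (MulAction.orbit P x₀) := by
      rw [Nat.card_eq_card_toFinset (MulAction.orbit P x₀)]
      congr 1
      ext x
      rw [Set.mem_toFinset, hmem]
    obtain ⟨k, hk⟩ := hP.card_orbit x₀
    rcases Nat.eq_zero_or_pos k with rfl | hkpos
    · exfalso
      apply hfix
      rw [pow_zero, Nat.card_eq_one_iff_unique] at hk
      intro t
      exact congrArg Subtype.val (hk.1.elim ⟨t • x₀, MulAction.mem_orbit _ _⟩
        ⟨x₀, MulAction.mem_orbit_self _⟩)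
    rw [hcard, hk, ← Nat.succ_pred_eq_of_pos hkpos, pow_succ, Nat.cast_mul]
    rw [mul_right_comm, mul_div_assoc, div_self (Nat.cast_ne_zero.2 (Fact.out : p.Prime).ne_zero),
      mul_one]
    exact (isIntegral_natCast' _).mul (hint x₀)

/-! ### The setting -/

variable {G : Type*} [Group G] {P : Type*} [Group P] (φ : P →* MulAut G)

/-- The fixed points of an action. -/
def fixedSub : Subgroup G where
  carrier := {g | ∀ s : P, φ s g = g}
  one_mem' := fun s => map_one _
  mul_mem' := fun {a b} ha hb s => by rw [map_mul, ha s, hb s]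
  inv_mem' := fun {a} ha s => by rw [map_inv, ha s]

theorem mem_fixedSub {g : G} : g ∈ fixedSub φ ↔ ∀ s : P, φ s g = g := Iff.rfl

/-- An invariant function. -/
def IsFixed (χ : G → ℂ) : Prop := ∀ (s : P) (g : G), χ (φ s g) = χ g

/-- The action on irreducible characters. -/
@[reducible] noncomputable def charAction : MulAction P (IrrCharacter G) where
  smul s χ := ⟨fun g => (χ : G → ℂ) (φ s⁻¹ g),
    IsIrrCharacter.comp_equiv χ.2 (φ s⁻¹)⟩
  one_smul χ := Subtype.ext (funext fun g => by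
    show (χ : G → ℂ) (φ (1 : P)⁻¹ g) = _
    simp)
  mul_smul s t χ := Subtype.ext (funext fun g => by
    show (χ : G → ℂ) (φ (s * t)⁻¹ g) = (χ : G → ℂ) (φ t⁻¹ (φ s⁻¹ g))
    rw [mul_inv_rev, map_mul]; rfl)

/-- The action on elements. -/
@[reducible] def elemAction : MulAction P G where
  smul s g := φ s g
  one_smul g := by show φ 1 g = g; rw [map_one]; rfl
  mul_smul s t g := by show φ (s * t) g = φ s (φ t g); rw [map_mul]; rfl

theorem isFixed_iff_smul (χ : IrrCharacter G) :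
    (∀ s : P, (charAction φ).smul s χ = χ) ↔ IsFixed φ (χ : G → ℂ) := by
  constructor
  · intro h s g
    have h1 := congrFun (congrArg Subtype.val (h s⁻¹)) g
    have h2 : (χ : G → ℂ) (φ s⁻¹⁻¹ g) = (χ : G → ℂ) g := h1
    rwa [inv_inv] at h2
  · intro h s
    exact Subtype.ext (funext fun g => h s⁻¹ g)

section Fintype

variable [Fintype G] [Fintype (fixedSub φ)]

/-- Multiplicity of `β` in the restriction of `χ` to the fixed points. -/
noncomputable def mult (χ : G → ℂ) (β : fixedSub φ → ℂ) : ℕ :=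
  ⌊(classInner (fun c : fixedSub φ => χ c) β).re⌋₊

theorem mult_spec {χ : G → ℂ} (hχ : IsCharacter G χ) {β : fixedSub φ → ℂ}
    (hβ : IsCharacter (fixedSub φ) β) :
    classInner (fun c : fixedSub φ => χ c) β = (mult φ χ β : ℂ) := by
  obtain ⟨m, hm⟩ := IsCharacter.classInner_nat (IsCharacter.restrict hχ (fixedSub φ)) hβ
  have h : classInner (fun c : fixedSub φ => χ c) β = (m : ℂ) := hm
  rw [mult, h]; simp

theorem mult_eq_of_classInner {χ : G → ℂ} {β : fixedSub φ → ℂ} {m : ℕ}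
    (h : classInner (fun c : fixedSub φ => χ c) β = (m : ℂ)) : mult φ χ β = m := by
  rw [mult, h]; simp

theorem isIntegral_ext {β : fixedSub φ → ℂ} (hβ : IsCharacter (fixedSub φ) β) (g : G) :
    IsIntegral ℤ (extendByZero (fixedSub φ) β g) := by
  by_cases hg : g ∈ fixedSub φ
  · rw [extendByZero_mem _ _ hg]; exact IsCharacter.isIntegral hβ _
  · rw [extendByZero_not_mem _ _ hg]; exact isIntegral_zero

variable {p : ℕ} [hp : Fact p.Prime] [Finite P]

/-- `|C| • β^G ≡ |C| • β` on the fixed points. -/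
theorem cong_indFun (hP : IsPGroup p P) {β : fixedSub φ → ℂ}
    (hβ : IsCharacter (fixedSub φ) β) (c : fixedSub φ) :
    Cong p ((Nat.card (fixedSub φ) : ℂ) * indFun (fixedSub φ) β c)
      ((Nat.card (fixedSub φ) : ℂ) * β c) := by
  classical
  letI := elemAction φ
  rw [indFun, ← mul_assoc, mul_inv_cancel₀ (Nat.cast_ne_zero.2 Nat.card_pos.ne'), one_mul]
  refine Cong.trans (cong_sum_fixed hP _ (fun x => isIntegral_ext φ hβ _) (fun s x => ?_)) ?_
  · show extendByZero _ β ((φ s x)⁻¹ * c * φ s x) = extendByZero _ β (x⁻¹ * c * x)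
    have e : (φ s x)⁻¹ * (c : G) * φ s x = φ s (x⁻¹ * c * x) := by
      rw [map_mul, map_mul, map_inv, c.2 s]
    rw [e]
    by_cases hg : x⁻¹ * (c : G) * x ∈ fixedSub φ
    · rw [hg s]
    · rw [extendByZero_not_mem _ _ hg, extendByZero_not_mem]
      intro h
      apply hg
      have h1 := h s⁻¹
      have h2 : φ s⁻¹ (φ s (x⁻¹ * c * x)) = x⁻¹ * c * x := by
        rw [← MulAut.mul_apply, ← map_mul, inv_mul_cancel, map_one]; rfl
      rw [h2] at h1
      rw [h1]; exact h
  · have : ∑ x ∈ Finset.univ.filter (fun x : G => ∀ s : P, s • x = x),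
        extendByZero (fixedSub φ) β (x⁻¹ * c * x) = (Nat.card (fixedSub φ) : ℂ) * β c := by
      rw [Finset.sum_congr rfl fun x hx => ?_, Finset.sum_const, nsmul_eq_mul]
      · congr 2
        rw [Nat.card_eq_fintype_card, ← Fintype.card_subtype]
        exact Fintype.card_congr (Equiv.refl _)
      · have hx' : x ∈ fixedSub φ := (Finset.mem_filter.1 hx).2
        rw [extendByZero_mem _ _ ((fixedSub φ).mul_mem ((fixedSub φ).mul_mem
          ((fixedSub φ).inv_mem hx') c.2) hx')]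
        have := IsCharacter.isClassFunction hβ c (⟨x, hx'⟩ : fixedSub φ)⁻¹
        rw [inv_inv] at this
        exact this
    rw [this]; exact Cong.rfl' _

theorem not_dvd_card_fixed (hG : ¬ p ∣ Nat.card G) : ¬ p ∣ Nat.card (fixedSub φ) :=
  fun h => hG (h.trans (Subgroup.card_subgroup_dvd_card _))

/-- Column orthogonality modulo `p`. -/
theorem sum_mult_modEq [Fintype (IrrCharacter G)] [DecidablePred fun χ : IrrCharacter G => IsFixed φ (χ : G → ℂ)]
    (hP : IsPGroup p P) (hG : ¬ p ∣ Nat.card G) (β β' : IrrCharacter (fixedSub φ)) [Decidable (β = β')] :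
    ((∑ χ ∈ Finset.univ.filter (fun χ : IrrCharacter G => IsFixed φ (χ : G → ℂ)),
      mult φ (χ : G → ℂ) β * mult φ (χ : G → ℂ) β' : ℕ) : ℤ)
      ≡ (if β = β' then 1 else 0) [ZMOD p] := by
  classical
  have hβc := IsIrrCharacter.isCharacter β.2
  have hβc' := IsIrrCharacter.isCharacter β'.2
  obtain ⟨S, hS⟩ : ∃ S : ℕ, S = ∑ χ : IrrCharacter G, mult φ (χ : G → ℂ) β * mult φ (χ : G → ℂ) β' :=
    ⟨_, rfl⟩
  have hinner : classInner (fun c : fixedSub φ => indFun (fixedSub φ) (β : fixedSub φ → ℂ) c)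
      (β' : fixedSub φ → ℂ) = (S : ℂ) := by
    rw [← frobenius_reciprocity' (fixedSub φ) _ (indFun_isClassFunction _ _),
      classInner_eq_sum (indFun_isClassFunction _ _)]
    rw [hS, Nat.cast_sum]
    refine Finset.sum_congr rfl fun χ _ => ?_
    rw [frobenius_reciprocity _ _ (IsIrrCharacter.isClassFunction χ.2),
      frobenius_reciprocity _ _ (IsIrrCharacter.isClassFunction χ.2),
      ← classInner_conj_symm _ (β : fixedSub φ → ℂ), ← classInner_conj_symm _ (β' : fixedSub φ → ℂ),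
      mult_spec φ (IsIrrCharacter.isCharacter χ.2) hβc,
      mult_spec φ (IsIrrCharacter.isCharacter χ.2) hβc']
    simp
  set C := Nat.card (fixedSub φ) with hC
  have hcong : Cong p (((C * C * S : ℕ) : ℤ) : ℂ) (((C * C * (if β = β' then 1 else 0) : ℕ) : ℤ) : ℂ) := by
    have e1 : (((C * C * S : ℕ) : ℤ) : ℂ) = ∑ c : fixedSub φ,
        ((C : ℂ) * indFun (fixedSub φ) (β : fixedSub φ → ℂ) c) * conj ((β' : fixedSub φ → ℂ) c) := by
      push_cast
      rw [mul_assoc (C : ℂ) (C : ℂ), ← hinner, hC, card_mul_classInner, Finset.mul_sum]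
      exact Finset.sum_congr rfl fun c _ => by ring
    have e2 : (((C * C * (if β = β' then 1 else 0) : ℕ) : ℤ) : ℂ) = ∑ c : fixedSub φ,
        ((C : ℂ) * (β : fixedSub φ → ℂ) c) * conj ((β' : fixedSub φ → ℂ) c) := by
      have h := classInner_irr β.2 β'.2
      push_cast
      rw [show (if β = β' then (1 : ℂ) else 0) = classInner (β : fixedSub φ → ℂ) (β' : fixedSub φ → ℂ) by
        rw [h]; simp [Subtype.ext_iff]]
      rw [mul_assoc, hC, card_mul_classInner, Finset.mul_sum]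
      exact Finset.sum_congr rfl fun c _ => by ring
    rw [e1, e2]
    refine Cong.sum _ fun c _ => Cong.mul_right (cong_indFun φ hP hβc c) ?_
    exact IsCharacter.isIntegral (IsCharacter.conj hβc') c
  have h1 := int_dvd_of_cong hp.out.ne_zero hcong
  have hS1 : (S : ℤ) ≡ (if β = β' then 1 else 0) [ZMOD p] := by
    have h2 : (p : ℤ) ∣ (C : ℤ) * C * ((if β = β' then 1 else 0) - S) := by
      refine Int.dvd_neg.1 (dvd_trans h1 (dvd_of_eq ?_))
      push_cast
      ring
    rcases (Nat.prime_iff_prime_int.1 hp.out).dvd_mul.1 h2 with h | h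
    · rcases (Nat.prime_iff_prime_int.1 hp.out).dvd_mul.1 h with h' | h' <;>
        exact absurd (Int.natCast_dvd_natCast.1 h') (not_dvd_card_fixed φ hG)
    · exact Int.modEq_iff_dvd.2 h
  refine Int.ModEq.trans ?_ hS1
  -- orbits of non-fixed characters contribute multiples of `p`
  letI := charAction φ
  have hsum := cong_sum_fixed (p := p) hP
    (fun χ : IrrCharacter G => ((mult φ (χ : G → ℂ) β * mult φ (χ : G → ℂ) β' : ℕ) : ℂ))
    (fun χ => isIntegral_natCast' _) (fun s χ => by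
      have e : ∀ γ : fixedSub φ → ℂ, mult φ ((s • χ : IrrCharacter G) : G → ℂ) γ = mult φ (χ : G → ℂ) γ := by
        intro γ
        unfold mult
        congr 3
        funext c
        show (χ : G → ℂ) (φ s⁻¹ c) = (χ : G → ℂ) c
        rw [c.2 s⁻¹]
      rw [e, e])
  rw [← Nat.cast_sum, ← Nat.cast_sum, ← Int.cast_natCast, ← Int.cast_natCast (R := ℂ)] at hsum
  have h3 := int_dvd_of_cong hp.out.ne_zero hsum
  rw [hS]
  refine Int.modEq_iff_dvd.2 ?_
  have hfeq : Finset.univ.filter (fun χ : IrrCharacter G => IsFixed φ (χ : G → ℂ))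
      = Finset.univ.filter (fun χ : IrrCharacter G => ∀ s : P, s • χ = χ) :=
    Finset.filter_congr fun χ _ => (isFixed_iff_smul φ χ).symm
  rw [hfeq]
  exact h3

theorem sum_mul_inv_irr {χ ψ : G → ℂ} (hχ : IsIrrCharacter G χ) (hψ : IsIrrCharacter G ψ)
    (hne : χ ≠ ψ) (c : G) : ∑ a : G, χ a * ψ (a⁻¹ * c) = 0 := by
  obtain ⟨n, ρ, hρ, rfl⟩ := hψ
  have hχc := IsIrrCharacter.isClassFunction hχ
  have hf : IsClassFunction G (fun a => χ a⁻¹) := fun g h => by
    show χ (h * g * h⁻¹)⁻¹ = χ g⁻¹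
    rw [← hχc g⁻¹ h]
    congr 1
    group
  have h1 := groupSumOp_eq_smul ρ hf
  have h0 : ∑ g, χ g⁻¹ * ρ.character g = 0 := by
    have hψ' := isIrrCharacter_character ρ
    have h2 := card_mul_classInner ρ.character χ
    rw [classInner_irr_of_ne hψ' hχ (Ne.symm hne), mul_zero] at h2
    rw [h2]
    exact Finset.sum_congr rfl fun g _ => by
      rw [IsCharacter.apply_inv (IsIrrCharacter.isCharacter hχ), mul_comm]
  rw [h0, zero_div, zero_smul] at h1
  have h3 := congrArg (fun T => LinearMap.trace ℂ _ (T * ρ c)) h1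
  simp only [zero_mul, map_zero, groupSumOp, Finset.sum_mul, map_sum,
    smul_mul_assoc, map_smul] at h3
  rw [← h3, ← Equiv.sum_comp (Equiv.inv G)]
  refine Finset.sum_congr rfl fun a _ => ?_
  show χ a⁻¹ * ρ.character (a⁻¹⁻¹ * c) = χ a⁻¹ • LinearMap.trace ℂ _ (ρ a * ρ c)
  rw [inv_inv, smul_eq_mul, Representation.character, map_mul ρ]

/-- Two different fixed characters share no constituent of multiplicity prime to `p`. -/
theorem fixed_unique (hP : IsPGroup p P) (hG : ¬ p ∣ Nat.card G) {χ ψ : G → ℂ}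
    (hχ : IsIrrCharacter G χ) (hψ : IsIrrCharacter G ψ) (hfχ : IsFixed φ χ) (hfψ : IsFixed φ ψ)
    {β : fixedSub φ → ℂ} (hβ : IsIrrCharacter (fixedSub φ) β)
    (h1 : ¬ p ∣ mult φ χ β) (h2 : ¬ p ∣ mult φ ψ β) : χ = ψ := by
  classical
  by_contra hne
  haveI : Fintype (IrrCharacter (fixedSub φ)) := Fintype.ofFinite _
  have hχc := IsIrrCharacter.isCharacter hχ
  have hψc := IsIrrCharacter.isCharacter hψ
  have hcong : ∀ c : (fixedSub φ), Cong p 0 (∑ a : (fixedSub φ), χ a * ψ ((a : G)⁻¹ * c)) := by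
    intro c
    letI := elemAction φ
    have h := cong_sum_fixed (p := p) hP (fun a : G => χ a * ψ (a⁻¹ * c))
      (fun a => (IsCharacter.isIntegral hχc a).mul (IsCharacter.isIntegral hψc _)) (fun s a => by
        show χ (φ s a) * ψ ((φ s a)⁻¹ * c) = χ a * ψ (a⁻¹ * c)
        have e : (φ s a)⁻¹ * (c : G) = φ s (a⁻¹ * c) := by rw [map_mul, map_inv, c.2 s]
        rw [hfχ s a, e, hfψ s])
    rw [sum_mul_inv_irr hχ hψ hne] at h
    refine Cong.trans h ?_
    rw [Finset.sum_subtype (Finset.univ.filter fun a : G => ∀ s : P, s • a = a)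
      (p := fun a => a ∈ (fixedSub φ)) (fun a => by
        simp only [Finset.mem_filter, Finset.mem_univ, true_and]; rfl)]
    exact Cong.rfl' _
  -- pair with `β`
  obtain ⟨d, hd0, hd1⟩ := IsIrrCharacter.exists_degree hβ
  obtain ⟨d', -, hd', hdd⟩ := IsIrrCharacter.degree_dvd_card hβ
  have hdd' : d ∣ Nat.card (fixedSub φ) := by
    have : d = d' := by
      have := hd1.symm.trans hd'
      exact_mod_cast this
    rw [this]; exact hdd
  obtain ⟨mχ, hmχ, hmχ'⟩ := IsCharacter.decompose (IsCharacter.restrict hχc (fixedSub φ))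
  obtain ⟨mψ, hmψ, hmψ'⟩ := IsCharacter.decompose (IsCharacter.restrict hψc (fixedSub φ))
  have hconv : ∀ γ δ : IrrCharacter (fixedSub φ), ∀ c : (fixedSub φ),
      ∑ a : (fixedSub φ), (γ : (fixedSub φ) → ℂ) a * (δ : (fixedSub φ) → ℂ) (a⁻¹ * c) =
        if γ = δ then (Nat.card (fixedSub φ) : ℂ) * (γ : (fixedSub φ) → ℂ) c / (γ : (fixedSub φ) → ℂ) 1 else 0 := by
    intro γ δ c
    by_cases hgd : γ = δ
    · subst hgd
      rw [if_pos rfl]
      obtain ⟨k, ρ, hρ, hρc⟩ := γ.2
      rw [← hρc]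
      have hf : IsClassFunction (fixedSub φ) (fun a => ρ.character a⁻¹) := fun g h => by
        show ρ.character (h * g * h⁻¹)⁻¹ = ρ.character g⁻¹
        rw [← isClassFunction_character ρ g⁻¹ h]
        congr 1
        group
      have h3 := groupSumOp_eq_smul ρ hf
      have h4 : ∑ g, ρ.character g⁻¹ * ρ.character g = (Nat.card (fixedSub φ) : ℂ) := by
        have h5 := card_mul_classInner ρ.character ρ.character
        rw [classInner_irr_self (isIrrCharacter_character ρ), mul_one] at h5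
        rw [h5]
        exact Finset.sum_congr rfl fun g _ => by
          rw [IsCharacter.apply_inv (isCharacter_character ρ), mul_comm]
      rw [h4] at h3
      have h6 := congrArg (fun T => LinearMap.trace ℂ _ (T * ρ c)) h3
      simp only [groupSumOp, Finset.sum_mul, map_sum, smul_mul_assoc, map_smul,
        ← Module.End.one_eq_id, one_mul] at h6
      rw [← Equiv.sum_comp (Equiv.inv (fixedSub φ)), Representation.char_one]
      refine Eq.trans ?_ (h6.trans ?_)
      · refine Finset.sum_congr rfl fun a _ => ?_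
        show ρ.character a⁻¹ * ρ.character (a⁻¹⁻¹ * c) = ρ.character a⁻¹ • LinearMap.trace ℂ _ (ρ a * ρ c)
        rw [inv_inv, smul_eq_mul]
        simp only [Representation.character, map_mul ρ]
      · rw [smul_eq_mul, Representation.character]; ring
    · rw [if_neg hgd]
      exact sum_mul_inv_irr γ.2 δ.2 (fun h => hgd (Subtype.ext h)) c
  have hsum : ∀ c : (fixedSub φ), ∑ a : (fixedSub φ), χ a * ψ ((a : G)⁻¹ * c)
      = ∑ γ : IrrCharacter (fixedSub φ), (mχ γ : ℂ) * mψ γ * ((Nat.card (fixedSub φ) : ℂ) * (γ : (fixedSub φ) → ℂ) c / (γ : (fixedSub φ) → ℂ) 1) := by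
    intro c
    have e1 : ∀ a : (fixedSub φ), χ (a : G) = ∑ γ : IrrCharacter (fixedSub φ), (mχ γ : ℂ) * (γ : (fixedSub φ) → ℂ) a := fun a => by
      have := congrFun hmχ a
      rw [Finset.sum_apply] at this
      exact this
    have e2 : ∀ a : (fixedSub φ), ψ (a : G) = ∑ γ : IrrCharacter (fixedSub φ), (mψ γ : ℂ) * (γ : (fixedSub φ) → ℂ) a := fun a => by
      have := congrFun hmψ a
      rw [Finset.sum_apply] at this
      exact this
    have e3 : ∀ a : (fixedSub φ), ψ ((a : G)⁻¹ * c) = ∑ γ : IrrCharacter (fixedSub φ), (mψ γ : ℂ) * (γ : (fixedSub φ) → ℂ) (a⁻¹ * c) :=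
      fun a => e2 (a⁻¹ * c)
    simp_rw [e1, e3, Finset.sum_mul, Finset.mul_sum]
    rw [Finset.sum_comm]
    refine Finset.sum_congr rfl fun γ _ => ?_
    rw [Finset.sum_comm, Finset.sum_eq_single γ]
    · rw [← show ∑ a : (fixedSub φ), (γ : (fixedSub φ) → ℂ) a * (γ : (fixedSub φ) → ℂ) (a⁻¹ * c) = _ from
        (hconv γ γ c).trans (if_pos rfl), Finset.mul_sum]
      exact Finset.sum_congr rfl fun a _ => by ring
    · intro δ _ hδ
      have h7 := (hconv γ δ c).trans (if_neg (Ne.symm hδ))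
      calc _ = (mχ γ : ℂ) * mψ δ * ∑ a : (fixedSub φ), (γ : (fixedSub φ) → ℂ) a * (δ : (fixedSub φ) → ℂ) (a⁻¹ * c) := by
            rw [Finset.mul_sum]; exact Finset.sum_congr rfl fun a _ => by ring
        _ = 0 := by rw [h7, mul_zero]
    · intro h; exact absurd (Finset.mem_univ _) h
  have hfinal : Cong p (((0 : ℕ) : ℤ) : ℂ)
      (((mχ ⟨β, hβ⟩ * mψ ⟨β, hβ⟩ * (Nat.card (fixedSub φ) * Nat.card (fixedSub φ)) : ℕ) : ℤ) : ℂ) := by
    have h8 : ∀ c : (fixedSub φ), Cong p 0 ((∑ a : (fixedSub φ), χ a * ψ ((a : G)⁻¹ * c)) * ((d : ℂ) * conj (β c))) := by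
      intro c
      have := (hcong c).mul_right (c := (d : ℂ) * conj (β c))
        ((isIntegral_natCast' d).mul (IsCharacter.isIntegral (IsCharacter.conj (IsIrrCharacter.isCharacter hβ)) c))
      rwa [zero_mul] at this
    have h9 := Cong.sum (p := p) Finset.univ fun c _ => h8 c
    rw [Finset.sum_const_zero] at h9
    refine Eq.mp ?_ h9
    congr 1
    · simp
    push_cast
    simp_rw [hsum, Finset.sum_mul]
    rw [Finset.sum_comm, Finset.sum_eq_single ⟨β, hβ⟩]
    · have h10 := card_mul_classInner β β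
      rw [classInner_irr_self hβ, mul_one] at h10
      have hd0' : (d : ℂ) ≠ 0 := Nat.cast_ne_zero.2 hd0.ne'
      calc _ = (mχ ⟨β, hβ⟩ : ℂ) * mψ ⟨β, hβ⟩ * (Nat.card (fixedSub φ) : ℂ) * ∑ c : (fixedSub φ), β c * conj (β c) := by
            rw [Finset.mul_sum]
            refine Finset.sum_congr rfl fun c _ => ?_
            show (mχ ⟨β, hβ⟩ : ℂ) * mψ ⟨β, hβ⟩ * ((Nat.card (fixedSub φ) : ℂ) * β c / β 1) * ((d : ℂ) * conj (β c)) = _
            rw [hd1]; field_simp
        _ = _ := by rw [← h10]; ring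
    · intro γ _ hγ
      have h10 := card_mul_classInner (γ : (fixedSub φ) → ℂ) β
      rw [classInner_irr_of_ne γ.2 hβ (fun h => hγ (Subtype.ext h)), mul_zero] at h10
      calc _ = (mχ γ : ℂ) * mψ γ * ((Nat.card (fixedSub φ) : ℂ) / (γ : (fixedSub φ) → ℂ) 1) * (d : ℂ)
              * ∑ c : (fixedSub φ), (γ : (fixedSub φ) → ℂ) c * conj (β c) := by
            rw [Finset.mul_sum]
            exact Finset.sum_congr rfl fun c _ => by ring
        _ = 0 := by rw [← h10, mul_zero]
    · intro h; exact absurd (Finset.mem_univ _) h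
  have h11 := int_dvd_of_cong hp.out.ne_zero hfinal
  rw [Int.natCast_zero, zero_sub, dvd_neg, Int.natCast_dvd_natCast] at h11
  have hm1 : mult φ χ β = mχ ⟨β, hβ⟩ := mult_eq_of_classInner φ (hmχ' ⟨β, hβ⟩)
  have hm2 : mult φ ψ β = mψ ⟨β, hβ⟩ := mult_eq_of_classInner φ (hmψ' ⟨β, hβ⟩)
  rw [hm1] at h1; rw [hm2] at h2
  rcases hp.out.dvd_mul.1 h11 with h | h
  · rcases hp.out.dvd_mul.1 h with h | h
    · exact h1 h
    · exact h2 h
  · rcases hp.out.dvd_mul.1 h with h | h <;> exact not_dvd_card_fixed φ hG h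

theorem exists_fixed_of_irr (hP : IsPGroup p P) (hG : ¬ p ∣ Nat.card G)
    (β : IrrCharacter (fixedSub φ)) :
    ∃ χ : IrrCharacter G, IsFixed φ (χ : G → ℂ) ∧ ¬ p ∣ mult φ (χ : G → ℂ) β := by
  classical
  haveI := Fintype.ofFinite (IrrCharacter G)
  have h := sum_mult_modEq φ hP hG β β
  rw [if_pos rfl] at h
  by_contra hno
  push Not at hno
  have h0 : (p : ℤ) ∣ ((∑ χ ∈ Finset.univ.filter (fun χ : IrrCharacter G => IsFixed φ (χ : G → ℂ)),
      mult φ (χ : G → ℂ) β * mult φ (χ : G → ℂ) β : ℕ) : ℤ) :=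
    Int.natCast_dvd_natCast.2 (Finset.dvd_sum fun χ hχ =>
      dvd_mul_of_dvd_left (hno χ (Finset.mem_filter.1 hχ).2) _)
  have h1 := (Int.modEq_zero_iff_dvd.2 h0).symm.trans h
  exact hp.out.ne_one (Nat.dvd_one.1 (Int.natCast_dvd_natCast.1 (by simpa using Int.modEq_iff_dvd.1 h1)))

theorem sum_eq_mul_modEq (hP : IsPGroup p P) (hG : ¬ p ∣ Nat.card G) (χ : IrrCharacter G)
    (hfix : IsFixed φ (χ : G → ℂ)) {β β' : IrrCharacter (fixedSub φ)}
    (hβ : ¬ p ∣ mult φ (χ : G → ℂ) β) [Decidable (β = β')] :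
    ((mult φ (χ : G → ℂ) β * mult φ (χ : G → ℂ) β' : ℕ) : ℤ) ≡ (if β = β' then 1 else 0) [ZMOD p] := by
  classical
  haveI := Fintype.ofFinite (IrrCharacter G)
  refine Int.ModEq.trans ?_ (sum_mult_modEq φ hP hG β β')
  rw [← Finset.add_sum_erase _ _ (Finset.mem_filter.2 ⟨Finset.mem_univ χ, hfix⟩)]
  rw [Nat.cast_add]
  refine Int.modEq_iff_dvd.2 ?_
  rw [add_sub_cancel_left, Int.natCast_dvd_natCast]
  refine Finset.dvd_sum fun ψ hψ => dvd_mul_of_dvd_left ?_ _
  obtain ⟨hne, hmem⟩ := Finset.mem_erase.1 hψ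
  by_contra hd
  exact hne (Subtype.ext (fixed_unique φ hP hG ψ.2 χ.2 (Finset.mem_filter.1 hmem).2 hfix β.2 hd hβ))

/-- The constituent of multiplicity prime to `p` is unique. -/
theorem irr_unique (hP : IsPGroup p P) (hG : ¬ p ∣ Nat.card G) {χ : IrrCharacter G}
    (hfix : IsFixed φ (χ : G → ℂ)) {β β' : IrrCharacter (fixedSub φ)}
    (hβ : ¬ p ∣ mult φ (χ : G → ℂ) β) (hβ' : ¬ p ∣ mult φ (χ : G → ℂ) β') : β = β' := by
  classical
  by_contra hne
  have h := sum_eq_mul_modEq φ hP hG χ hfix (β' := β') hβ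
  rw [if_neg hne] at h
  have h1 := Int.natCast_dvd_natCast.1 (Int.modEq_zero_iff_dvd.1 h)
  rcases hp.out.dvd_mul.1 h1 with h2 | h2
  · exact hβ h2
  · exact hβ' h2

/-- The multiplicity is `±1` modulo `p`. -/
theorem mult_modEq (hP : IsPGroup p P) (hG : ¬ p ∣ Nat.card G) {χ : IrrCharacter G}
    (hfix : IsFixed φ (χ : G → ℂ)) {β : IrrCharacter (fixedSub φ)}
    (hβ : ¬ p ∣ mult φ (χ : G → ℂ) β) :
    (mult φ (χ : G → ℂ) β : ℤ) ≡ 1 [ZMOD p] ∨ (mult φ (χ : G → ℂ) β : ℤ) ≡ -1 [ZMOD p] := by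
  classical
  have h := sum_eq_mul_modEq φ hP hG χ hfix (β' := β) hβ
  rw [if_pos rfl, Int.modEq_iff_dvd] at h
  push_cast at h
  have h2 : (p : ℤ) ∣ (1 - (mult φ (χ : G → ℂ) β : ℤ)) * (-1 - (mult φ (χ : G → ℂ) β : ℤ)) := by
    refine Int.dvd_neg.1 (dvd_trans h (dvd_of_eq ?_)); ring
  rcases (Nat.prime_iff_prime_int.1 hp.out).dvd_mul.1 h2 with h3 | h3
  · exact Or.inl (Int.modEq_iff_dvd.2 h3)
  · exact Or.inr (Int.modEq_iff_dvd.2 h3)

omit [Finite P] in
theorem exists_irr_of_fixed (hG : ¬ p ∣ Nat.card G) (χ : IrrCharacter G) :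
    ∃ β : IrrCharacter (fixedSub φ), ¬ p ∣ mult φ (χ : G → ℂ) β := by
  haveI := Fintype.ofFinite (IrrCharacter (fixedSub φ))
  obtain ⟨m, hm, hm'⟩ := IsCharacter.decompose (IsCharacter.restrict (IsIrrCharacter.isCharacter χ.2) (fixedSub φ))
  obtain ⟨n, hn0, hn, hdvd⟩ := IsIrrCharacter.degree_dvd_card χ.2
  choose d hd using fun β : IrrCharacter (fixedSub φ) => IsIrrCharacter.exists_degree β.2
  by_contra hno
  push Not at hno
  have h1 := congrFun hm 1
  rw [Finset.sum_apply] at h1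
  have h2 : (n : ℂ) = ((∑ β : IrrCharacter (fixedSub φ), m β * d β : ℕ) : ℂ) := by
    rw [← hn]
    refine h1.trans ?_
    push_cast
    exact Finset.sum_congr rfl fun β _ => by rw [Pi.smul_apply, (hd β).2, smul_eq_mul]
  have h3 : n = ∑ β : IrrCharacter (fixedSub φ), m β * d β := by exact_mod_cast h2
  refine hG (dvd_trans ?_ hdvd)
  rw [h3]
  exact Finset.dvd_sum fun β _ => dvd_mul_of_dvd_left
    ((mult_eq_of_classInner φ (hm' β)) ▸ hno β) _

/-- The Glauberman map. -/
noncomputable def toFixedIrr (hG : ¬ p ∣ Nat.card G) (χ : IrrCharacter G) :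
    IrrCharacter (fixedSub φ) := (exists_irr_of_fixed φ hG χ).choose

/-- The Glauberman correspondence for a `p`-group. -/
theorem toFixedIrr_bijective (hP : IsPGroup p P) (hG : ¬ p ∣ Nat.card G) :
    Function.Bijective (fun χ : {χ : IrrCharacter G // IsFixed φ (χ : G → ℂ)} => toFixedIrr φ hG χ.1) := by
  constructor
  · intro χ ψ h
    have h1 : ¬ p ∣ mult φ (χ.1 : G → ℂ) (toFixedIrr φ hG χ.1) :=
      (exists_irr_of_fixed φ hG χ.1).choose_spec
    have h2 : ¬ p ∣ mult φ (ψ.1 : G → ℂ) (toFixedIrr φ hG ψ.1) :=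
      (exists_irr_of_fixed φ hG ψ.1).choose_spec
    simp only at h
    rw [← h] at h2
    exact Subtype.ext (Subtype.ext (fixed_unique φ hP hG χ.1.2 ψ.1.2 χ.2 ψ.2
      (toFixedIrr φ hG χ.1).2 h1 h2))
  · intro β
    obtain ⟨χ, hfix, hd⟩ := exists_fixed_of_irr φ hP hG β
    exact ⟨⟨χ, hfix⟩, irr_unique φ hP hG hfix (exists_irr_of_fixed φ hG χ).choose_spec hd⟩

end Fintype

/-! ### Classes -/

theorem fused_in_fixed [Finite G] {p : ℕ} [Fact p.Prime] [Finite P] (hP : IsPGroup p P)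
    (hG : ¬ p ∣ Nat.card G) {c c' : G} (hc : c ∈ fixedSub φ) (hc' : c' ∈ fixedSub φ)
    (h : IsConj c c') : ∃ g ∈ fixedSub φ, g * c * g⁻¹ = c' := by
  obtain ⟨g₀, hg₀⟩ := isConj_iff.1 h
  letI : MulAction P {g : G // g * c * g⁻¹ = c'} :=
    { smul := fun s g => ⟨φ s g.1, by
        have e : φ s g.1 * φ s c * (φ s g.1)⁻¹ = φ s c' := by
          rw [← map_inv, ← map_mul, ← map_mul, g.2]
        rwa [hc s, hc' s] at e⟩
      one_smul := fun g => Subtype.ext (by show φ 1 g.1 = g.1; rw [map_one]; rfl)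
      mul_smul := fun s t g => Subtype.ext (by
        show φ (s * t) g.1 = φ s (φ t g.1)
        rw [map_mul]; rfl) }
  have hcard : Nat.card {g : G // g * c * g⁻¹ = c'} = Nat.card (Subgroup.centralizer ({c} : Set G)) := by
    refine Nat.card_congr
      { toFun := fun g => ⟨g₀⁻¹ * g.1, ?_⟩
        invFun := fun z => ⟨g₀ * z.1, ?_⟩
        left_inv := fun g => Subtype.ext (by simp)
        right_inv := fun z => Subtype.ext (by simp) }
    · rw [Subgroup.mem_centralizer_singleton_iff]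
      calc g₀⁻¹ * g.1 * c = g₀⁻¹ * (g.1 * c * g.1⁻¹) * g.1 := by group
        _ = g₀⁻¹ * (g₀ * c * g₀⁻¹) * g.1 := by rw [g.2, hg₀]
        _ = c * (g₀⁻¹ * g.1) := by group
    · have hz := Subgroup.mem_centralizer_singleton_iff.1 z.2
      calc g₀ * z.1 * c * (g₀ * z.1)⁻¹ = g₀ * (z.1 * c) * z.1⁻¹ * g₀⁻¹ := by group
        _ = g₀ * (c * z.1) * z.1⁻¹ * g₀⁻¹ := by rw [hz]
        _ = c' := by rw [← hg₀]; group
  obtain ⟨g, hg⟩ := hP.nonempty_fixed_point_of_prime_not_dvd_card {g : G // g * c * g⁻¹ = c'}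
    (by rw [hcard]; exact fun hd => hG (hd.trans (Subgroup.card_subgroup_dvd_card _)))
  exact ⟨g.1, fun s => congrArg Subtype.val (hg s), g.2⟩

theorem exists_fixed_in_class [Finite G] {p : ℕ} [Fact p.Prime] [Finite P] (hP : IsPGroup p P)
    (hG : ¬ p ∣ Nat.card G) {x : G} (hx : ∀ s : P, IsConj x (φ s x)) :
    ∃ c ∈ fixedSub φ, IsConj x c := by
  letI : MulAction P {y : G // IsConj x y} :=
    { smul := fun s y => ⟨φ s y.1, (hx s).trans ((φ s).toMonoidHom.map_isConj y.2)⟩
      one_smul := fun g => Subtype.ext (by show φ 1 g.1 = g.1; rw [map_one]; rfl)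
      mul_smul := fun s t g => Subtype.ext (by
        show φ (s * t) g.1 = φ s (φ t g.1)
        rw [map_mul]; rfl) }
  have hcard : Nat.card {y : G // IsConj x y} = (Subgroup.centralizer ({x} : Set G)).index := by
    haveI := Fintype.ofFinite G
    have h1 := Char.card_conjugates_mul_card_centralizer x
    rw [← Subgroup.index_mul_card (Subgroup.centralizer ({x} : Set G))] at h1
    exact Nat.eq_of_mul_eq_mul_right Nat.card_pos h1
  obtain ⟨c, hc⟩ := hP.nonempty_fixed_point_of_prime_not_dvd_card {y : G // IsConj x y}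
    (by rw [hcard]; exact fun hd => hG (hd.trans (Subgroup.index_dvd_card _)))
  exact ⟨c.1, fun s => congrArg Subtype.val (hc s), c.2⟩

/-- A conjugacy class fixed by the action. -/
def IsFixedClass (K : ConjClasses G) : Prop :=
  ∀ (s : P) (g : G), ConjClasses.mk g = K → ConjClasses.mk (φ s g) = K

theorem classMap_bijective [Finite G] {p : ℕ} [Fact p.Prime] [Finite P] (hP : IsPGroup p P)
    (hG : ¬ p ∣ Nat.card G) :
    Function.Bijective (fun K : ConjClasses (fixedSub φ) =>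
      (⟨ConjClasses.map (fixedSub φ).subtype K, by
        obtain ⟨a, rfl⟩ := ConjClasses.mk_surjective K
        exact (by
          intro s g hg
          rw [← hg, ConjClasses.mk_eq_mk_iff_isConj]
          have h1 : IsConj g (a : G) := ConjClasses.mk_eq_mk_iff_isConj.1 hg
          have h2 := (φ s).toMonoidHom.map_isConj h1
          simp only [MulEquiv.coe_toMonoidHom] at h2
          rw [a.2 s] at h2
          exact h2.trans h1.symm)⟩ : {K : ConjClasses G // IsFixedClass φ K})) := by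
  constructor
  · intro K K' h
    obtain ⟨a, rfl⟩ := ConjClasses.mk_surjective K
    obtain ⟨b, rfl⟩ := ConjClasses.mk_surjective K'
    have h1 : IsConj (a : G) (b : G) := ConjClasses.mk_eq_mk_iff_isConj.1 (congrArg Subtype.val h)
    obtain ⟨g, hg, hgc⟩ := fused_in_fixed φ hP hG a.2 b.2 h1
    rw [ConjClasses.mk_eq_mk_iff_isConj, isConj_iff]
    exact ⟨⟨g, hg⟩, Subtype.ext hgc⟩
  · rintro ⟨K, hK⟩
    obtain ⟨x, rfl⟩ := ConjClasses.mk_surjective K
    obtain ⟨c, hc, hxc⟩ := exists_fixed_in_class φ hP hG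
      (x := x) (fun s => ConjClasses.mk_eq_mk_iff_isConj.1 (hK s x rfl).symm)
    exact ⟨ConjClasses.mk ⟨c, hc⟩, Subtype.ext (ConjClasses.mk_eq_mk_iff_isConj.2 hxc.symm)⟩

end Cfsg.Agent.GlauberChar
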