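/-
The Glauberman correspondence inside an ambient group: `S ≤ Γ` normalising `G ≤ Γ`.

* `actHom`, `equivFixed` : `G ⊓ C(S) ≃* fixedSub (actHom ..)`
* `classInner_transport`
-/
import Cfsg.Agent.Lib.GlauberChar.Basic

set_option autoImplicit false

namespace Cfsg.Agent.GlauberChar

open Cfsg Cfsg.Agent.Char

variable {Γ : Type*} [Group Γ] (G S : Subgroup Γ)

/-- Conjugation of a normalising subgroup. -/
def actHom (hnorm : ∀ s ∈ S, ∀ g ∈ G, s * g * s⁻¹ ∈ G) : S →* MulAut G where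
  toFun s :=
    { toFun := fun g => ⟨s * g * (s : Γ)⁻¹, hnorm s s.2 g g.2⟩
      invFun := fun g => ⟨(s : Γ)⁻¹ * g * s, by simpa using hnorm _ (S.inv_mem s.2) g g.2⟩
      left_inv := fun g => Subtype.ext (by simp [mul_assoc])
      right_inv := fun g => Subtype.ext (by simp [mul_assoc])
      map_mul' := fun a b => Subtype.ext (by simp [mul_assoc]) }
  map_one' := by ext g; simp
  map_mul' s t := by ext g; simp [mul_assoc]

@[simp] theorem actHom_coe (hnorm : ∀ s ∈ S, ∀ g ∈ G, s * g * s⁻¹ ∈ G) (s : S) (g : G) :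
    ((actHom G S hnorm s g : G) : Γ) = s * g * (s : Γ)⁻¹ := rfl

theorem isFixed_iff (hnorm : ∀ s ∈ S, ∀ g ∈ G, s * g * s⁻¹ ∈ G) (χ : G → ℂ) :
    IsFixed (actHom G S hnorm) χ ↔
      ∀ s ∈ S, ∀ g g' : G, (g' : Γ) = s * g * s⁻¹ → χ g' = χ g := by
  constructor
  · intro h s hs g g' hgg'
    have : g' = actHom G S hnorm ⟨s, hs⟩ g := Subtype.ext hgg'
    rw [this]; exact h ⟨s, hs⟩ g
  · intro h s g
    exact h s s.2 g _ rfl

/-- `G ⊓ C(S)` is the fixed subgroup. -/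
def equivFixed (hnorm : ∀ s ∈ S, ∀ g ∈ G, s * g * s⁻¹ ∈ G) (C : Subgroup Γ)
    (hC : C = G ⊓ Subgroup.centralizer (S : Set Γ)) : C ≃* fixedSub (actHom G S hnorm) where
  toFun c := ⟨⟨c, (le_of_eq hC c.2).1⟩, fun s => Subtype.ext (by
    have h := Subgroup.mem_centralizer_iff.1 ((le_of_eq hC c.2).2) s s.2
    show (s : Γ) * c * (s : Γ)⁻¹ = c
    rw [h, mul_inv_cancel_right])⟩
  invFun c := ⟨((c : G) : Γ), by
    rw [hC]
    refine ⟨(c : G).2, Subgroup.mem_centralizer_iff.2 fun s hs => ?_⟩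
    exact mul_inv_eq_iff_eq_mul.1 (congrArg Subtype.val (c.2 ⟨s, hs⟩))⟩
  left_inv c := rfl
  right_inv c := rfl
  map_mul' a b := rfl

theorem classInner_transport [Fintype G] (hnorm : ∀ s ∈ S, ∀ g ∈ G, s * g * s⁻¹ ∈ G) (C : Subgroup Γ)
    [Fintype C] [Fintype (fixedSub (actHom G S hnorm))]
    (hC : C = G ⊓ Subgroup.centralizer (S : Set Γ)) (hCG : C ≤ G) (χ : G → ℂ) (β : C → ℂ) :
    classInner (fun c : C => χ ⟨c, hCG c.2⟩) β =
      classInner (fun c : fixedSub (actHom G S hnorm) => χ c)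
        (fun c => β ((equivFixed G S hnorm C hC).symm c)) :=
  (classInner_comp_equiv (equivFixed G S hnorm C hC).symm (fun c : C => χ ⟨c, hCG c.2⟩) β).symm

end Cfsg.Agent.GlauberChar
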