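import Cfsg.Agent.Lib.GlauberChar.Solvable
import Cfsg.Agent.Lib.GlauberChar.Ambient
import Cfsg.Agent.Lib.CharExtend.Coprime
import Cfsg.Agent.Lib.CharApp.CoprimeFixed
import Cfsg.Agent.Lib.ClassCount.CharSum

/-!
# Characters of degree prime to a coprime complement
* `card_fixedClass_eq` : solvable coprime action: fixed classes ↔ classes of the fixed points
* `card_coprime_degree` : `G = K ⋊ H`, coprime: the characters of degree prime to `|H|`
  are counted by `H`-invariant characters of `K` times linear characters of `H`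
-/

set_option autoImplicit false

namespace Cfsg.Agent.GlauberChar

open Cfsg Cfsg.Agent.Char Cfsg.Agent.CharApp Subgroup

universe u

theorem card_fixedClass_eq_aux : ∀ (d : ℕ) (G : Type u) [Group G] [Fintype G] (S : Subgroup (MulAut G)),
    Group.IsSolvable S → (Nat.card G).Coprime (Nat.card S) → Nat.card S ≤ d →
    Nat.card {K : ConjClasses G // IsFixedClass S.subtype K} =
      Nat.card (ConjClasses (fixedSub S.subtype)) := by
  intro d
  induction d with
  | zero => intro G _ _ S _ _ hd; have := Nat.card_pos (α := S); omega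
  | succ d ih =>
    intro G _ _ S hsol hcop hd
    classical
    haveI := hsol
    by_cases hS : S = ⊥
    · subst hS
      have h1 : ∀ s : (⊥ : Subgroup (MulAut G)), (s : MulAut G) = 1 := fun s => Subgroup.mem_bot.1 s.2
      have hB : ∀ K : ConjClasses G, IsFixedClass (⊥ : Subgroup (MulAut G)).subtype K :=
        fun K s g hg => by rw [Subgroup.coe_subtype, h1 s]; exact hg
      have htop : fixedSub (⊥ : Subgroup (MulAut G)).subtype = ⊤ :=
        eq_top_iff.2 fun g _ s => by rw [Subgroup.coe_subtype, h1 s]; rfl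
      rw [Nat.card_congr (Equiv.subtypeUnivEquiv hB),
        ← card_irr_eq_card_conjClasses, ← card_irr_eq_card_conjClasses]
      let e := (MulEquiv.subgroupCongr htop).trans Subgroup.topEquiv
      exact Nat.card_congr
        { toFun := fun χ => ⟨fun c => (χ : G → ℂ) (e c), IsIrrCharacter.comp_equiv χ.2 e⟩
          invFun := fun χ => ⟨fun g => (χ : _ → ℂ) (e.symm g), IsIrrCharacter.comp_equiv χ.2 e.symm⟩
          left_inv := fun χ => Subtype.ext (funext fun g => congrArg (χ : G → ℂ) (e.apply_symm_apply g))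
          right_inv := fun χ => Subtype.ext (funext fun g => congrArg (χ : _ → ℂ) (e.symm_apply_apply g)) }
    obtain ⟨p, T, hp, hTn, hTp, hT0, hpG, hC⟩ := exists_step S hS hcop
    haveI : Fact p.Prime := ⟨hp⟩
    obtain ⟨φ, hφ⟩ : ∃ φ : T →* MulAut G, φ = S.subtype.comp T.subtype := ⟨_, rfl⟩
    rw [← hφ] at hC
    have hφapp : ∀ (t : T) (g : G), φ t g = ((t : S) : MulAut G) g := fun t g => by rw [hφ]; rfl
    haveI : Fintype (fixedSub φ) := Fintype.ofFinite _
    let ρ : S →* MulAut (fixedSub φ) := restrictAct S.subtype (fixedSub φ) hC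
    have hker : T ≤ ρ.ker := fun t ht => MulEquiv.ext fun c => Subtype.ext (by
      have := c.2 ⟨t, ht⟩
      rw [hφapp] at this
      exact this)
    haveI : Group.IsSolvable ρ.range :=
      solvable_of_surjective ρ.rangeRestrict_surjective
    have hcop' : (Nat.card (fixedSub φ)).Coprime (Nat.card ρ.range) :=
      (hcop.coprime_dvd_left (Subgroup.card_subgroup_dvd_card _)).coprime_dvd_right
        (Subgroup.card_range_dvd ρ)
    have hlt := card_range_lt S T hT0 ρ hker
    have hrec := ih (fixedSub φ) ρ.range inferInstance hcop' (by omega)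
    let F := Equiv.ofBijective _ (classMap_bijective φ hTp hpG)
    have hKT : ∀ K : ConjClasses G, IsFixedClass S.subtype K → IsFixedClass φ K := fun K h t g hg => by
      rw [hφ]; exact h (t : S) g hg
    have hR : Nat.card {K : ConjClasses G // IsFixedClass S.subtype K}
        = Nat.card {K : ConjClasses (fixedSub φ) // IsFixedClass ρ.range.subtype K} := by
      refine Nat.card_congr (((Equiv.subtypeSubtypeEquivSubtype (fun {K} h => hKT K h)).symm).trans
        (F.subtypeEquiv fun K => ?_).symm)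
      obtain ⟨c, rfl⟩ := ConjClasses.mk_surjective K
      show IsFixedClass ρ.range.subtype (ConjClasses.mk c) ↔
        IsFixedClass S.subtype (ConjClasses.mk ((c : fixedSub φ) : G))
      constructor
      · intro h s g hg
        have h1 : ConjClasses.mk (ρ s c) = ConjClasses.mk c := h ⟨ρ s, s, rfl⟩ c rfl
        rw [← hg, ConjClasses.mk_eq_mk_iff_isConj]
        have h2 : IsConj g (c : G) := ConjClasses.mk_eq_mk_iff_isConj.1 hg
        refine ((MulEquiv.toMonoidHom (s : MulAut G)).map_isConj h2).trans ?_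
        exact ((fixedSub φ).subtype.map_isConj (ConjClasses.mk_eq_mk_iff_isConj.1 h1)).trans h2.symm
      · intro h r g hg
        obtain ⟨s, hs⟩ := r.2
        have h1 : ConjClasses.mk ((s : MulAut G) (g : G)) = ConjClasses.mk (c : G) := by
          refine h s (g : G) (ConjClasses.mk_eq_mk_iff_isConj.2 ?_)
          exact (fixedSub φ).subtype.map_isConj (ConjClasses.mk_eq_mk_iff_isConj.1 hg)
        rw [ConjClasses.mk_eq_mk_iff_isConj]
        show IsConj ((r : MulAut (fixedSub φ)) g) c
        rw [← hs]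
        obtain ⟨z, hz, hzc⟩ := fused_in_fixed φ hTp hpG (hC s g g.2) c.2
          (ConjClasses.mk_eq_mk_iff_isConj.1 h1)
        exact isConj_iff.2 ⟨⟨z, hz⟩, Subtype.ext hzc⟩
    rw [hR, hrec]
    -- fixed points of the fixed points
    have h1 : ∀ x : fixedSub ρ.range.subtype, ((x : fixedSub φ) : G) ∈ fixedSub S.subtype := fun x s =>
      congrArg Subtype.val (x.2 ⟨ρ s, s, rfl⟩)
    have h2 : ∀ x : fixedSub S.subtype, (x : G) ∈ fixedSub φ := fun x t => by
      rw [hφapp]; exact x.2 t
    let e : fixedSub ρ.range.subtype ≃* fixedSub S.subtype :=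
      { toFun := fun x => ⟨_, h1 x⟩
        invFun := fun x => ⟨⟨x, h2 x⟩, by
          rintro ⟨_, s, rfl⟩
          exact Subtype.ext (x.2 s)⟩
        left_inv := fun x => rfl
        right_inv := fun x => rfl
        map_mul' := fun x y => rfl }
    haveI : Fintype (fixedSub ρ.range.subtype) := Fintype.ofFinite _
    haveI : Fintype (fixedSub S.subtype) := Fintype.ofFinite _
    rw [← card_irr_eq_card_conjClasses, ← card_irr_eq_card_conjClasses]
    exact Nat.card_congr
      { toFun := fun χ => ⟨fun c => (χ : _ → ℂ) (e.symm c), IsIrrCharacter.comp_equiv χ.2 e.symm⟩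
        invFun := fun χ => ⟨fun c => (χ : _ → ℂ) (e c), IsIrrCharacter.comp_equiv χ.2 e⟩
        left_inv := fun χ => Subtype.ext (funext fun g => congrArg (χ : _ → ℂ) (e.symm_apply_apply g))
        right_inv := fun χ => Subtype.ext (funext fun g => congrArg (χ : _ → ℂ) (e.apply_symm_apply g)) }

/-- A character trivial on a normal complement restricts irreducibly to the complement. -/
theorem trivOn_complement {G : Type*} [Group G] [Finite G] (K : Subgroup G) {H : Subgroup G}
    (π : G →* H) (hπ : ∀ g : G, g * (π g : G)⁻¹ ∈ K)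
    {β : G → ℂ} (hβ : IsIrrCharacter G β) (ht : TrivOn K β) :
    IsIrrCharacter H (fun h : H => β h) ∧ ∀ g, β g = β (π g : G) := by
  obtain ⟨n, ρ, hρ, rfl⟩ := hβ
  haveI := hρ
  have hid : ∀ m : K, ρ (m : G) = LinearMap.id := fun m => by
    rw [← character_eq_finrank_iff, ht m, Representation.char_one]
  have hg : ∀ g, ρ g = ρ (π g : G) := fun g => by
    have h := hid ⟨_, hπ g⟩
    calc ρ g = ρ (g * (π g : G)⁻¹) * ρ (π g : G) := by rw [← map_mul, inv_mul_cancel_right]
      _ = ρ (π g : G) := by rw [h]; rfl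
  refine ⟨⟨n, ρ.comp H.subtype, ?_, rfl⟩, fun g => congrArg (LinearMap.trace ℂ _) (hg g)⟩
  refine (OrderIso.isSimpleOrder_iff (β := Subrepresentation (ρ.comp H.subtype)) ?_).1 hρ
  exact
  { toFun := fun p => ⟨p.toSubmodule, fun h _ hv => p.apply_mem_toSubmodule (h : G) hv⟩
    invFun := fun p => ⟨p.toSubmodule, fun g v hv => by
      rw [hg g]; exact p.apply_mem_toSubmodule (π g) hv⟩
    left_inv := fun p => rfl
    right_inv := fun p => rfl
    map_rel_iff' := Iff.rfl }

theorem charDegree_cast' {G : Type*} [Group G] [Fintype G] {χ : G → ℂ} (hχ : IsIrrCharacter G χ) :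
    χ 1 = (charDegree χ : ℂ) ∧ charDegree χ ∣ Nat.card G ∧ 0 < charDegree χ :=
  ⟨ClassCount.apply_one_eq_charDegree ⟨χ, hχ⟩, ClassCount.degree_dvd_card ⟨χ, hχ⟩,
    ClassCount.charDegree_pos ⟨χ, hχ⟩⟩

/-- Characters of `G = K ⋊ H` of degree prime to `|H|`, the orders being coprime. -/
theorem card_coprime_degree {G : Type*} [Group G] [Fintype G] (K H : Subgroup G) [K.Normal]
    (hKH : K.IsComplement' H) (hcop : (Nat.card K).Coprime (Nat.card H)) :
    Nat.card {χ : IrrCharacter G // (charDegree (χ : G → ℂ)).Coprime (Nat.card H)} =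
      Nat.card {θ : IrrCharacter K // ∀ g : G, CliffordChar.conjFun K g (θ : K → ℂ) = (θ : K → ℂ)} *
        Nat.card (H →* ℂˣ) := by
  classical
  haveI : Fintype K := Fintype.ofFinite _
  haveI : Fintype H := Fintype.ofFinite _
  have hidx : K.index = Nat.card H := hKH.symm.index_eq_card
  have hcopI : (Nat.card K).Coprime K.index := hidx ▸ hcop
  let π : G →* H := hKH.symm.QuotientMulEquiv.toMonoidHom.comp (QuotientGroup.mk' K)
  have hπH : ∀ h : H, π (h : G) = h := fun h => by
    show hKH.symm.QuotientMulEquiv (QuotientGroup.mk (h : G)) = h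
    rw [← MulEquiv.eq_symm_apply]
    rfl
  have hπ : ∀ g : G, g * (π g : G)⁻¹ ∈ K := fun g => by
    have h1 : QuotientGroup.mk' K (π g : G) = QuotientGroup.mk' K g :=
      hKH.symm.QuotientMulEquiv.injective (hπH (π g))
    rw [← QuotientGroup.ker_mk' K, MonoidHom.mem_ker, map_mul, map_inv, h1, mul_inv_cancel]
  have hπK : ∀ k : K, π (k : G) = 1 := fun k => by
    show hKH.symm.QuotientMulEquiv (QuotientGroup.mk (k : G)) = 1
    rw [(QuotientGroup.eq_one_iff _).2 k.2, map_one]
  let lin : (H →* ℂˣ) → G → ℂ := fun l g => (l (π g) : ℂ)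
  have hlin : ∀ l, IsIrrCharacter G (lin l) := fun l => by
    exact Char.isIrrCharacter_of_hom ((Units.coeHom ℂ).comp (l.comp π))
  have hlinK : ∀ l, TrivOn K (lin l) := fun l k => by
    show ((l (π k) : ℂˣ) : ℂ) = ((l (π 1) : ℂˣ) : ℂ)
    simp [hπK k]
  -- the chosen extensions
  have hext : ∀ θ : {θ : IrrCharacter K // ∀ g : G, CliffordChar.conjFun K g (θ : K → ℂ) = (θ : K → ℂ)},
      ∃ χ : G → ℂ, IsIrrCharacter G χ ∧ ∀ x : K, χ x = (θ.1 : K → ℂ) x := fun θ =>
    CharExtend.extends_of_coprime θ.1.2 (fun g x =>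
      (mem_inertia_iff K).1 ((mem_inertia K).2 (θ.2 g)) x) hcopI
  choose ext hext1 hext2 using hext
  have hres : ∀ θ, IsIrrCharacter K (fun n : K => ext θ n) := fun θ => by
    rw [show (fun n : K => ext θ n) = (θ.1 : K → ℂ) from funext (hext2 θ)]
    exact θ.1.2
  have hirr : ∀ θ l, IsIrrCharacter G (ext θ * lin l) := fun θ l =>
    gallagher_irr K (hext1 θ) (hres θ) (hlin l) (hlinK l)
  have hresK : ∀ θ l, (fun n : K => (ext θ * lin l) n) = (θ.1 : K → ℂ) := fun θ l => funext fun n => by
    simp [lin, Pi.mul_apply, hπK n, hext2 θ n]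
  let F : {θ : IrrCharacter K // ∀ g : G, CliffordChar.conjFun K g (θ : K → ℂ) = (θ : K → ℂ)} × (H →* ℂˣ) →
      {χ : IrrCharacter G // (charDegree (χ : G → ℂ)).Coprime (Nat.card H)} := fun x =>
    ⟨⟨ext x.1 * lin x.2, hirr x.1 x.2⟩, by
      have h1 : charDegree (ext x.1 * lin x.2) = charDegree (x.1.1 : K → ℂ) := by
        unfold charDegree
        rw [show (ext x.1 * lin x.2) 1 = (x.1.1 : K → ℂ) 1 from congrFun (hresK x.1 x.2) 1]
      rw [h1]
      exact hcop.coprime_dvd_left (charDegree_cast' x.1.1.2).2.1⟩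
  rw [← Nat.card_prod]
  refine (Nat.card_congr (Equiv.ofBijective F ⟨?_, ?_⟩)).symm
  · rintro ⟨θ, l⟩ ⟨θ', l'⟩ h
    have h1 : ext θ * lin l = ext θ' * lin l' := congrArg (fun x => (x.1 : G → ℂ)) h
    have hθ : θ = θ' := Subtype.ext (Subtype.ext (by rw [← hresK θ l, ← hresK θ' l', h1]))
    subst hθ
    have h2 := gallagher_injective K (hext1 θ) (hres θ) (hlin l) (hlin l') (hlinK l) (hlinK l') h1
    refine Prod.ext rfl (MonoidHom.ext fun x => Units.ext ?_)
    have := congrFun h2 (x : G)
    simpa [lin, hπH x] using this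
  · rintro ⟨⟨χ, hχ⟩, hd⟩
    obtain ⟨⟨θ, hθ⟩, hθc⟩ := exists_constituent (IsCharacter.restrict (IsIrrCharacter.isCharacter hχ) K)
      (by simpa using IsIrrCharacter.apply_one_ne_zero hχ)
    obtain ⟨e, he⟩ := IsCharacter.classInner_nat (IsCharacter.restrict (IsIrrCharacter.isCharacter hχ) K)
      (IsIrrCharacter.isCharacter hθ)
    obtain ⟨hχ1, -, -⟩ := charDegree_cast' hχ
    obtain ⟨hθ1, -, -⟩ := charDegree_cast' hθ
    have hdeg := restrict_degree K hχ hθ hθc
    rw [he, hχ1, hθ1] at hdeg
    have hdeg' : charDegree χ = e * (inertia K θ).index * charDegree θ := by exact_mod_cast hdeg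
    have ht : (inertia K θ).index = 1 := by
      refine Nat.eq_one_of_dvd_coprimes hd ?_ ?_
      · exact ⟨e * charDegree θ, by rw [hdeg']; ring⟩
      · rw [← hidx]; exact Subgroup.index_dvd_of_le (le_inertia K (IsIrrCharacter.isClassFunction hθ))
    rw [Subgroup.index_eq_one] at ht
    let θ0 : {θ : IrrCharacter K // ∀ g : G, CliffordChar.conjFun K g (θ : K → ℂ) = (θ : K → ℂ)} :=
      ⟨⟨θ, hθ⟩, fun g => (mem_inertia K).1 (ht ▸ Subgroup.mem_top g)⟩
    have hne : classInner (fun n : K => χ n) (fun n : K => ext θ0 n) ≠ 0 := by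
      rw [show (fun n : K => ext θ0 n) = θ from funext (hext2 θ0)]
      exact hθc
    obtain ⟨β, hβ, hβt, hχe⟩ := gallagher_exhaustive K (hext1 θ0) (hres θ0) hχ hne
    obtain ⟨hβH, hβπ⟩ := trivOn_complement K π hπ hβ hβt
    obtain ⟨hβ1, hβdvd, -⟩ := charDegree_cast' hβH
    have hb1 : charDegree (fun h : H => β h) = 1 := by
      refine Nat.eq_one_of_dvd_coprimes hd ?_ hβdvd
      refine ⟨charDegree θ, ?_⟩
      have h3 : χ 1 = θ 1 * β 1 := by
        have h := congrFun hχe 1
        rw [Pi.mul_apply] at h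
        rw [h]
        exact congrArg (· * β 1) (hext2 θ0 1)
      rw [hχ1, hθ1, show β 1 = _ from hβ1] at h3
      have h4 : charDegree χ = charDegree θ * charDegree (fun h : H => β h) := by exact_mod_cast h3
      show charDegree χ = _
      rw [h4, mul_comm]
    obtain ⟨l, hl⟩ := Char.exists_hom_of_degree_one (IsIrrCharacter.isCharacter hβH)
      (by rw [hβ1, hb1, Nat.cast_one])
    refine ⟨(θ0, l.toHomUnits), Subtype.ext (Subtype.ext ?_)⟩
    show ext θ0 * lin l.toHomUnits = χ
    rw [hχe]
    congr 1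
    funext g
    rw [hβπ g]
    exact congrFun hl (π g)

end Cfsg.Agent.GlauberChar
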