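/-
Coprime cyclic action, group level (namespace `Cfsg.Agent.GlauberChar`).

`Cyc G s C` : `G` normal in `Γ = G ⟨s⟩`, `|G|` prime to the order of `s`, `C = C_G(s)`.

* `Cyc.exists_conj` : every element of `G s` is conjugate to an element of `C s`
* `Cyc.sum_coset` : `|C| ∑_{g ∈ G} F (g s) = |G| ∑_{c ∈ C} F (c s)` for class functions
* `Cyc.exists_ext_classFunction` : class functions of `C` extend to class functions on `G s`
-/
import Cfsg.Agent.Lib.Char.Orth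

set_option autoImplicit false

namespace Cfsg.Agent.GlauberChar

open Cfsg Cfsg.Agent.Char

/-- `Γ = G ⟨s⟩` with `G` normal of order prime to the order of `s` and `C = C_G(s)`. -/
structure Cyc {Γ : Type*} [Group Γ] (G : Subgroup Γ) (s : Γ) (C : Subgroup Γ) : Prop where
  normal : G.Normal
  coprime : (Nat.card G).Coprime (orderOf s)
  gen : G ⊔ Subgroup.zpowers s = ⊤
  mem_iff : ∀ x, x ∈ C ↔ x ∈ G ∧ x * s = s * x

namespace Cyc

variable {Γ : Type*} [Group Γ] {G : Subgroup Γ} {s : Γ} {C : Subgroup Γ}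

theorem C_le (H : Cyc G s C) : C ≤ G := fun x hx => ((H.mem_iff x).1 hx).1

theorem comm (H : Cyc G s C) {c : Γ} (hc : c ∈ C) : c * s = s * c := ((H.mem_iff c).1 hc).2

theorem comm_zpowers (H : Cyc G s C) {c t : Γ} (hc : c ∈ C) (ht : t ∈ Subgroup.zpowers s) :
    c * t = t * c := by
  obtain ⟨j, rfl⟩ := Subgroup.mem_zpowers_iff.1 ht
  exact Commute.zpow_right (H.comm hc) j

theorem exists_decomp (H : Cyc G s C) (x : Γ) :
    ∃ g ∈ G, ∃ t ∈ Subgroup.zpowers s, x = g * t := by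
  haveI := H.normal
  have hx : x ∈ G ⊔ Subgroup.zpowers s := H.gen ▸ Subgroup.mem_top x
  rw [Subgroup.mem_sup_of_normal_left] at hx
  obtain ⟨g, hg, t, ht, rfl⟩ := hx
  exact ⟨g, hg, t, ht, rfl⟩

theorem disjoint (H : Cyc G s C) {x : Γ} (hx : x ∈ G) (hxs : x ∈ Subgroup.zpowers s) : x = 1 := by
  rw [← orderOf_eq_one_iff]
  refine Nat.dvd_one.1 (H.coprime ▸ Nat.dvd_gcd (Subgroup.orderOf_dvd_natCard G hx) ?_)
  obtain ⟨j, rfl⟩ := Subgroup.mem_zpowers_iff.1 hxs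
  exact orderOf_dvd_of_mem_zpowers ⟨j, rfl⟩

theorem index_eq [Finite Γ] (H : Cyc G s C) : G.index = orderOf s := by
  haveI := H.normal
  rw [Subgroup.index_eq_card, ← Nat.card_zpowers]
  refine (Nat.card_congr (Equiv.ofBijective
    (fun t : Subgroup.zpowers s => ((t : Γ) : Γ ⧸ G)) ⟨fun a b hab => ?_, fun q => ?_⟩)).symm
  · have h1 : (a : Γ)⁻¹ * b ∈ G := QuotientGroup.eq.1 hab
    exact Subtype.ext (inv_mul_eq_one.1 (H.disjoint h1 (mul_mem (inv_mem a.2) b.2)))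
  · obtain ⟨x, rfl⟩ := QuotientGroup.mk_surjective q
    obtain ⟨g, hg, t, ht, rfl⟩ := H.exists_decomp x
    refine ⟨⟨t, ht⟩, QuotientGroup.eq.2 ?_⟩
    have := H.normal.conj_mem g hg t⁻¹
    simpa [mul_assoc] using this

theorem card_eq [Finite Γ] (H : Cyc G s C) : Nat.card Γ = Nat.card G * orderOf s := by
  rw [← H.index_eq, Subgroup.card_mul_index]

theorem commutator_mem (H : Cyc G s C) (x y : Γ) : x * y * x⁻¹ * y⁻¹ ∈ G := by
  haveI := H.normal
  obtain ⟨g, hg, t, ht, rfl⟩ := H.exists_decomp x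
  obtain ⟨k, hk, u, hu, rfl⟩ := H.exists_decomp y
  rw [← QuotientGroup.eq_one_iff]
  have h1 : (g : Γ ⧸ G) = 1 := (QuotientGroup.eq_one_iff g).2 hg
  have h2 : (k : Γ ⧸ G) = 1 := (QuotientGroup.eq_one_iff k).2 hk
  obtain ⟨i, rfl⟩ := Subgroup.mem_zpowers_iff.1 ht
  obtain ⟨j, rfl⟩ := Subgroup.mem_zpowers_iff.1 hu
  simp only [QuotientGroup.mk_mul, QuotientGroup.mk_inv, h1, h2, one_mul]
  rw [← QuotientGroup.mk_mul, ← zpow_add, add_comm i j, zpow_add, QuotientGroup.mk_mul,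
    mul_inv_cancel_right, mul_inv_cancel]

theorem conj_mem_coset (H : Cyc G s C) {y : Γ} (hy : y * s⁻¹ ∈ G) (x : Γ) :
    x * y * x⁻¹ * s⁻¹ ∈ G := by
  have := G.mul_mem (H.commutator_mem x y) hy
  simpa [mul_assoc] using this

/-- An exponent fixing `s` and killing `G`. -/
theorem exists_exp (H : Cyc G s C) : ∃ a : ℕ, s ^ a = s ∧ ∀ g ∈ G, g ^ a = 1 := by
  obtain ⟨a, ha1, ha2⟩ := Nat.chineseRemainder H.coprime 0 1
  refine ⟨a, ?_, fun g hg => orderOf_dvd_iff_pow_eq_one.1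
    ((Subgroup.orderOf_dvd_natCard G hg).trans (Nat.modEq_zero_iff_dvd.1 ha1))⟩
  conv_rhs => rw [← pow_one s]
  exact pow_eq_pow_iff_modEq.2 ha2

theorem conj_eq (H : Cyc G s C) {g c c' : Γ} (hg : g ∈ G) (hc : c ∈ C) (hc' : c' ∈ C)
    (h : g * (c * s) * g⁻¹ = c' * s) : g ∈ C ∧ g * c * g⁻¹ = c' := by
  obtain ⟨a, ha, hG⟩ := H.exists_exp
  have hpow : ∀ d ∈ C, (d * s) ^ a = s := fun d hd => by
    rw [Commute.mul_pow (H.comm hd), hG d (H.C_le hd), ha, one_mul]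
  have h2 := congrArg (· ^ a) h
  simp only [conj_pow, hpow c hc, hpow c' hc'] at h2
  have hcomm : g * s = s * g := mul_inv_eq_iff_eq_mul.1 h2
  refine ⟨(H.mem_iff g).2 ⟨hg, hcomm⟩, ?_⟩
  have h3 : g * c * g⁻¹ * (g * s * g⁻¹) = c' * s := by rw [← h]; group
  rw [h2] at h3
  exact mul_right_cancel h3

section sums

variable [Fintype G] [Fintype C]

/-- `(g, c) ↦ g (c s) g⁻¹ s⁻¹`. -/
noncomputable def cosetMap (H : Cyc G s C) (p : G × C) : G :=
  ⟨(p.1 : Γ) * (p.2 * s) * (p.1 : Γ)⁻¹ * s⁻¹, H.conj_mem_coset (by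
    rw [mul_inv_cancel_right]; exact H.C_le p.2.2) _⟩

theorem cosetMap_eq_iff (H : Cyc G s C) (p : G × C) (y : G) :
    H.cosetMap p = y ↔ (p.1 : Γ) * (p.2 * s) * (p.1 : Γ)⁻¹ = y * s := by
  rw [Subtype.ext_iff]
  exact mul_inv_eq_iff_eq_mul

open Classical in
theorem card_fibre (H : Cyc G s C) (y : G) :
    (Finset.univ.filter fun p => H.cosetMap p = y).card = 0 ∨
      (Finset.univ.filter fun p => H.cosetMap p = y).card = Fintype.card C := by
  rcases (Finset.univ.filter fun p => H.cosetMap p = y).eq_empty_or_nonempty with h | ⟨⟨g, c⟩, h⟩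
  · exact Or.inl (by rw [h, Finset.card_empty])
  right
  rw [Finset.mem_filter, cosetMap_eq_iff] at h
  obtain ⟨-, hgc⟩ := h
  have hmem : ∀ h : C, g * ⟨(h : Γ), H.C_le h.2⟩ ∈ (⊤ : Subgroup G) := fun _ => trivial
  refine (Finset.card_bij (fun (h : C) _ => (g * ⟨(h : Γ), H.C_le h.2⟩, h⁻¹ * c * h))
    (fun h _ => ?_) (fun a _ b _ hab => ?_) (fun p hp => ?_)).symm.trans (by rw [Finset.card_univ])
  · rw [Finset.mem_filter, cosetMap_eq_iff]
    refine ⟨Finset.mem_univ _, ?_⟩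
    rw [← hgc]
    push_cast
    have hh := H.comm h.2
    rw [mul_inv_rev]
    calc (g : Γ) * h * ((h : Γ)⁻¹ * c * h * s) * ((h : Γ)⁻¹ * (g : Γ)⁻¹)
        = (g : Γ) * (c * (h * s * (h : Γ)⁻¹)) * (g : Γ)⁻¹ := by group
      _ = (g : Γ) * (c * s) * (g : Γ)⁻¹ := by rw [hh, mul_inv_cancel_right]
  · have h1 := congrArg (fun x : G => (x : Γ)) (mul_left_cancel (congrArg Prod.fst hab))
    exact Subtype.ext h1
  · rw [Finset.mem_filter, cosetMap_eq_iff] at hp
    have h1 : ((g : Γ)⁻¹ * p.1) * ((p.2 : Γ) * s) * ((g : Γ)⁻¹ * p.1)⁻¹ = (c : Γ) * s := by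
      have := hp.2.trans hgc.symm
      calc ((g : Γ)⁻¹ * p.1) * ((p.2 : Γ) * s) * ((g : Γ)⁻¹ * p.1)⁻¹
          = (g : Γ)⁻¹ * ((p.1 : Γ) * (p.2 * s) * (p.1 : Γ)⁻¹) * g := by group
        _ = (c : Γ) * s := by rw [this]; group
    obtain ⟨hd, hdc⟩ := H.conj_eq (G.mul_mem (G.inv_mem g.2) p.1.2) p.2.2 c.2 h1
    refine ⟨⟨_, hd⟩, Finset.mem_univ _, Prod.ext (Subtype.ext ?_) (Subtype.ext ?_)⟩
    · show (g : Γ) * ((g : Γ)⁻¹ * p.1) = p.1
      rw [mul_inv_cancel_left]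
    · show ((g : Γ)⁻¹ * p.1)⁻¹ * c * ((g : Γ)⁻¹ * p.1) = p.2
      rw [← hdc]; group

open Classical in
theorem card_fibre_eq (H : Cyc G s C) (y : G) :
    (Finset.univ.filter fun p => H.cosetMap p = y).card = Fintype.card C := by
  have hsum := Finset.card_eq_sum_card_fiberwise (f := H.cosetMap) (s := Finset.univ)
    (t := Finset.univ) (fun _ _ => Finset.mem_univ _)
  rw [Finset.card_univ, Fintype.card_prod] at hsum
  rcases H.card_fibre y with h | h
  · exfalso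
    have hlt : ∑ b : G, (Finset.univ.filter fun p => H.cosetMap p = b).card <
        ∑ _b : G, Fintype.card C :=
      Finset.sum_lt_sum (fun b _ => by rcases H.card_fibre b with h | h <;> omega)
        ⟨y, Finset.mem_univ _, by rw [h]; exact Fintype.card_pos⟩
    rw [← hsum, Finset.sum_const, Finset.card_univ, smul_eq_mul] at hlt
    exact lt_irrefl _ hlt
  · exact h

theorem exists_conj (H : Cyc G s C) (y : G) :
    ∃ g : G, ∃ c : C, (g : Γ) * (c * s) * (g : Γ)⁻¹ = y * s := by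
  classical
  have h := H.card_fibre_eq y
  obtain ⟨p, hp⟩ := Finset.card_pos.1 (h ▸ Fintype.card_pos)
  rw [Finset.mem_filter, cosetMap_eq_iff] at hp
  exact ⟨p.1, p.2, hp.2⟩

theorem sum_coset (H : Cyc G s C) {F : Γ → ℂ} (hF : IsClassFunction Γ F) :
    (Nat.card C : ℂ) * ∑ g : G, F ((g : Γ) * s) = (Nat.card G : ℂ) * ∑ c : C, F ((c : Γ) * s) := by
  classical
  have h1 : ∑ p : G × C, F (H.cosetMap p * s) = (Nat.card G : ℂ) * ∑ c : C, F ((c : Γ) * s) := by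
    rw [Fintype.sum_prod_type]
    have : ∀ g : G, ∑ c : C, F ((H.cosetMap (g, c) : Γ) * s) = ∑ c : C, F ((c : Γ) * s) := fun g =>
      Finset.sum_congr rfl fun c _ => by
        rw [show (H.cosetMap (g, c) : Γ) * s = (g : Γ) * (c * s) * (g : Γ)⁻¹ from inv_mul_cancel_right _ _]
        exact hF _ _
    rw [Finset.sum_congr rfl fun g _ => this g, Finset.sum_const, Finset.card_univ, nsmul_eq_mul,
      Nat.card_eq_fintype_card]
  rw [← h1, ← Finset.sum_fiberwise_of_maps_to (g := H.cosetMap) (fun _ _ => Finset.mem_univ _),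
    Finset.mul_sum]
  refine Finset.sum_congr rfl fun y _ => ?_
  rw [Finset.sum_congr rfl fun p hp => by rw [(Finset.mem_filter.1 hp).2], Finset.sum_const,
    H.card_fibre_eq y, nsmul_eq_mul, Nat.card_eq_fintype_card]

theorem exists_ext_classFunction (H : Cyc G s C) {φ : C → ℂ} (hφ : IsClassFunction C φ) :
    ∃ F : Γ → ℂ, IsClassFunction Γ F ∧ (∀ c : C, F ((c : Γ) * s) = φ c) ∧
      ∀ y : Γ, y * s⁻¹ ∉ G → F y = 0 := by
  classical
  haveI := H.normal
  have hex : ∀ y : Γ, y * s⁻¹ ∈ G → ∃ g : G, ∃ c : C, (g : Γ) * (c * s) * (g : Γ)⁻¹ = y :=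
    fun y hy => by
      obtain ⟨g, c, h⟩ := H.exists_conj ⟨_, hy⟩
      exact ⟨g, c, h.trans (inv_mul_cancel_right y s)⟩
  choose g c hgc using hex
  let F : Γ → ℂ := fun y => if hy : y * s⁻¹ ∈ G then φ (c y hy) else 0
  have key : ∀ (y : Γ) (hy : y * s⁻¹ ∈ G) (x : Γ) (d : C), x * y * x⁻¹ = (d : Γ) * s →
      F y = φ d := by
    intro y hy x d hxd
    show (if hy : y * s⁻¹ ∈ G then φ (c y hy) else 0) = _
    rw [dif_pos hy]
    have h1 : (x * g y hy) * ((c y hy : Γ) * s) * (x * g y hy)⁻¹ = (d : Γ) * s := by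
      rw [← hxd]
      conv_rhs => rw [← hgc y hy]
      group
    obtain ⟨k, hk, t, ht, hkt⟩ := H.exists_decomp (x * g y hy)
    have ht1 : t * ((c y hy : Γ) * s) * t⁻¹ = (c y hy : Γ) * s := by
      rw [← mul_assoc, ← H.comm_zpowers (c y hy).2 ht, mul_assoc _ t s,
        show t * s = s * t from by
          obtain ⟨j, rfl⟩ := Subgroup.mem_zpowers_iff.1 ht
          exact ((Commute.refl s).zpow_left j).eq,
        ← mul_assoc, mul_inv_cancel_right]
    rw [hkt] at h1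
    have h2 : k * ((c y hy : Γ) * s) * k⁻¹ = (d : Γ) * s := by
      rw [← h1]
      conv_lhs => rw [← ht1]
      group
    obtain ⟨hkC, hkc⟩ := H.conj_eq hk (c y hy).2 d.2 h2
    have := hφ (c y hy) ⟨k, hkC⟩
    rw [← this]
    exact congrArg φ (Subtype.ext hkc)
  refine ⟨F, fun y x => ?_, fun d => ?_, fun y hy => dif_neg hy⟩
  · by_cases hy : y * s⁻¹ ∈ G
    · have hy' := H.conj_mem_coset hy x
      rw [key y hy ((g (x * y * x⁻¹) hy' : Γ)⁻¹ * x) (c (x * y * x⁻¹) hy') (by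
        have h := hgc (x * y * x⁻¹) hy'
        calc _ = (g (x * y * x⁻¹) hy' : Γ)⁻¹ * (x * y * x⁻¹) * g (x * y * x⁻¹) hy' := by group
          _ = (g (x * y * x⁻¹) hy' : Γ)⁻¹ * ((g (x * y * x⁻¹) hy' : Γ) *
              ((c (x * y * x⁻¹) hy' : Γ) * s) * (g (x * y * x⁻¹) hy' : Γ)⁻¹) *
                g (x * y * x⁻¹) hy' := by rw [h]
          _ = _ := by group)]
      exact dif_pos hy'
    · have hy' : x * y * x⁻¹ * s⁻¹ ∉ G := fun h => hy (by
        have := H.conj_mem_coset h x⁻¹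
        simpa [mul_assoc] using this)
      show (dite _ _ _) = dite _ _ _
      rw [dif_neg hy, dif_neg hy']
  · exact key _ (by rw [mul_inv_cancel_right]; exact H.C_le d.2) 1 d (by simp)

end sums

end Cyc

end Cfsg.Agent.GlauberChar
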