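/-
Coprime cyclic action, canonical extensions (namespace `Cfsg.Agent.GlauberChar`).

* `IsCanon G s χh` : `χh` extends an irreducible character of `G`, determinantal order prime to `s`
* `Cyc.exists_canon`, `Cyc.canon_unique`, `Cyc.canon_pow` (Galois invariance)
* `Cyc.irr_restrict` : irreducibles not vanishing on `G s` restrict irreducibly
* `Cyc.canon_coset_orth`
-/
import Cfsg.Agent.Lib.GlauberChar.CyclicAux
import Cfsg.Agent.Lib.CharApp.CoprimeFixed
import Cfsg.Agent.Lib.GaloisPow.Twist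
import Cfsg.Agent.S0867

set_option autoImplicit false

namespace Cfsg.Agent.GlauberChar

open Cfsg Cfsg.Agent.Char
open scoped ComplexConjugate

/-- A canonical extension to `Γ = G ⟨s⟩`. -/
def IsCanon {Γ : Type*} [Group Γ] (G : Subgroup Γ) (s : Γ) (χh : Γ → ℂ) : Prop :=
  IsIrrCharacter Γ χh ∧ IsIrrCharacter G (fun g : G => χh g) ∧
    (detOrder χh).Coprime (orderOf s)

theorem detOrder_twist {Γ : Type*} [Group Γ] [Finite Γ] (f : ℂ ≃+* ℂ) {χ : Γ → ℂ}
    (hχ : IsCharacter Γ χ) : detOrder (fun x => f (χ x)) = detOrder χ := by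
  obtain ⟨n, ρ, rfl⟩ := hχ
  let ρ' : Representation ℂ Γ (Fin n → ℂ) :=
    { toFun := fun g => Matrix.toLinAlgEquiv' ((LinearMap.toMatrixAlgEquiv' (ρ g)).map f.toRingHom)
      map_one' := by
        rw [map_one, map_one, Matrix.map_one f.toRingHom (map_zero _) (map_one _), map_one]
      map_mul' := fun g h => by rw [map_mul, map_mul, Matrix.map_mul, map_mul] }
  have hch : ρ'.character = fun x => f (ρ.character x) := by
    funext g
    show LinearMap.trace ℂ _
      (Matrix.toLinAlgEquiv' ((LinearMap.toMatrixAlgEquiv' (ρ g)).map f.toRingHom)) = _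
    rw [LinearMap.trace_eq_matrix_trace ℂ (Pi.basisFun ℂ (Fin n)), Representation.character,
      LinearMap.trace_eq_matrix_trace ℂ (Pi.basisFun ℂ (Fin n))]
    simp [Matrix.trace, LinearMap.toMatrix_eq_toMatrix', LinearMap.toMatrixAlgEquiv',
      Matrix.toLinAlgEquiv']
  have hdet : detChar (fun x => f (ρ.character x)) =
      (f.toRingHom.toMonoidHom.compLeft Γ) (detChar ρ.character) := by
    funext g
    rw [← hch, CharExtend.detChar_character]
    show _ = f (detChar ρ.character g)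
    rw [CharExtend.detChar_character]
    show LinearMap.det
      (Matrix.toLinAlgEquiv' ((LinearMap.toMatrixAlgEquiv' (ρ g)).map f.toRingHom)) = _
    rw [← LinearMap.det_toMatrix' (f := ρ g)]
    rw [show Matrix.toLinAlgEquiv' ((LinearMap.toMatrixAlgEquiv' (ρ g)).map f.toRingHom) =
      Matrix.toLin' ((LinearMap.toMatrix' (ρ g)).map f.toRingHom) from rfl, LinearMap.det_toLin',
      ← RingHom.mapMatrix_apply, ← RingHom.map_det]
    rfl
  unfold detOrder
  rw [hdet, orderOf_injective]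
  intro a b hab
  funext g
  exact f.injective (congrFun hab g)

namespace Cyc

variable {Γ : Type*} [Group Γ] [Fintype Γ] {G : Subgroup Γ} [Fintype G] {s : Γ} {C : Subgroup Γ}

theorem detOrder_dvd (χ : G → ℂ) (hχ : IsCharacter G χ) : detOrder χ ∣ Nat.card G := by
  obtain ⟨l, hl⟩ := CharExtend.exists_detChar_eq hχ
  rw [detOrder, hl, CharExtend.orderOf_valHom]
  refine orderOf_dvd_of_pow_eq_one (MonoidHom.ext fun g => ?_)
  rw [MonoidHom.pow_apply, ← map_pow, pow_card_eq_one', map_one, MonoidHom.one_apply]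

theorem exists_canon (H : Cyc G s C) {χ : G → ℂ} (hχ : IsIrrCharacter G χ)
    (hinv : ∀ (x : Γ) (g : G), χ ⟨x * g * x⁻¹, H.normal.conj_mem g g.2 x⟩ = χ g) :
    ∃ χh : Γ → ℂ, (IsCanon G s χh ∧ ∀ g : G, χh g = χ g) ∧
      ∀ ψ : Γ → ℂ, IsCanon G s ψ → (∀ g : G, ψ g = χ g) → ψ = χh := by
  haveI := H.normal
  obtain ⟨d, -, hd, hdvd⟩ := IsIrrCharacter.degree_dvd_card hχ
  have hcop : G.index.Coprime (detOrder χ * d) := by
    rw [H.index_eq]
    exact Nat.Coprime.mul_right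
      (H.coprime.symm.coprime_dvd_right (detOrder_dvd χ (IsIrrCharacter.isCharacter hχ)))
      (H.coprime.symm.coprime_dvd_right hdvd)
  obtain ⟨χh, ⟨h1, h2, h3⟩, huniq⟩ := S0867.result G χ hχ hinv d hd hcop
  refine ⟨χh, ⟨⟨h1, (funext h2 : (fun g : G => χh g) = χ) ▸ hχ, ?_⟩, h2⟩, fun ψ hψ hres =>
    huniq ψ hψ.1 hres (by rw [H.index_eq]; exact hψ.2.2.symm)⟩
  rw [h3]
  exact H.coprime.coprime_dvd_left (detOrder_dvd χ (IsIrrCharacter.isCharacter hχ))

theorem canon_unique (H : Cyc G s C) {χh ψh : Γ → ℂ} (hχ : IsCanon G s χh) (hψ : IsCanon G s ψh)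
    (h : ∀ g : G, χh g = ψh g) : χh = ψh := by
  obtain ⟨φ, -, huniq⟩ := H.exists_canon hχ.2.1 (fun x g =>
    IsIrrCharacter.isClassFunction hχ.1 g x)
  rw [huniq χh hχ (fun _ => rfl), huniq ψh hψ fun g => (h g).symm]

theorem canon_pow (H : Cyc G s C) {χh : Γ → ℂ} (hχ : IsCanon G s χh) {k : ℕ}
    (hk : k.Coprime (Nat.card Γ)) (hkG : ∀ g ∈ G, g ^ k = g) (x : Γ) : χh (x ^ k) = χh x := by
  obtain ⟨f, hf⟩ := GaloisPow.exists_galois Γ hk
  have hc := IsIrrCharacter.isCharacter hχ.1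
  have e : (fun y => χh (y ^ k)) = fun y => f (χh y) := funext fun y => (hf χh hc y).symm
  have hres : ∀ g : G, χh ((g : Γ) ^ k) = χh g := fun g => by rw [hkG g g.2]
  have hc2 : IsCanon G s (fun y => χh (y ^ k)) := by
    refine ⟨GaloisPow.isIrrCharacter_comp_pow hk hχ.1, ?_, ?_⟩
    · rw [show (fun g : G => χh ((g : Γ) ^ k)) = fun g : G => χh g from funext hres]
      exact hχ.2.1
    · rw [e, detOrder_twist f hc]
      exact hχ.2.2
  exact congrFun (H.canon_unique hc2 hχ hres) x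

/-- Characters trivial on `G` are linear. -/
theorem trivOn_linear (H : Cyc G s C) {β : Γ → ℂ} (hβ : IsIrrCharacter Γ β)
    (ht : CharApp.TrivOn G β) : ∃ l : Γ →* ℂ, ⇑l = β ∧ (∀ g ∈ G, l g = 1) ∧
      ∀ y, y * s⁻¹ ∈ G → l y = l s := by
  have h1 := CharApp.degree_one_of_trivOn G H.commutator_mem hβ ht
  obtain ⟨l, hl⟩ := exists_hom_of_degree_one (IsIrrCharacter.isCharacter hβ) h1
  have hlG : ∀ g ∈ G, l g = 1 := fun g hg => by
    rw [hl]; exact (ht ⟨g, hg⟩).trans h1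
  refine ⟨l, hl, hlG, fun y hy => ?_⟩
  conv_lhs => rw [← inv_mul_cancel_right y s]
  rw [map_mul, hlG _ hy, one_mul]

theorem eq_one_of_linear (H : Cyc G s C) {l : Γ →* ℂ} (hl : ∀ g ∈ G, l g = 1) (hs : l s = 1)
    (x : Γ) : l x = 1 := by
  obtain ⟨g, hg, t, ht, rfl⟩ := H.exists_decomp x
  rw [← (isOfFinOrder_of_finite s).mem_powers_iff_mem_zpowers] at ht
  obtain ⟨j, rfl⟩ := ht
  rw [map_mul, hl g hg, map_pow, hs, one_pow, one_mul]

theorem irr_restrict (H : Cyc G s C) {ψ : Γ → ℂ} (hψ : IsIrrCharacter Γ ψ) {y : Γ}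
    (hy : y * s⁻¹ ∈ G) (hne : ψ y ≠ 0) : IsIrrCharacter G (fun g : G => ψ g) := by
  classical
  haveI := H.normal
  haveI := Fintype.ofFinite (IrrCharacter Γ)
  refine (isIrrCharacter_iff_norm_one (IsCharacter.restrict (IsIrrCharacter.isCharacter hψ) G)).2 ?_
  have h := indFun_mul G (1 : G → ℂ) (IsIrrCharacter.isClassFunction hψ)
  rw [one_mul, CharApp.indFun_one_eq_sum G, Finset.sum_mul] at h
  rw [← frobenius_reciprocity' G _ (IsIrrCharacter.isClassFunction hψ), ← h, classInner_sum_right,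
    Finset.sum_eq_single ⟨1, isIrrCharacter_one⟩]
  · rw [show ((⟨1, isIrrCharacter_one⟩ : IrrCharacter Γ) : Γ → ℂ) = 1 from rfl, Pi.one_apply,
      one_smul, one_mul]
    exact classInner_irr_self hψ
  · intro β hβ hβ1
    obtain ⟨l, hl, hlG, hls⟩ := H.trivOn_linear β.2 (Finset.mem_filter.1 hβ).2
    have hb1 : (β : Γ → ℂ) 1 = 1 := by rw [← hl, map_one]
    rw [hb1, one_smul, mul_comm, ← hl]
    refine classInner_irr_of_ne hψ (IsIrrCharacter.mul_linear hψ l) fun heq => hβ1 (Subtype.ext ?_)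
    have h1 : l s = 1 := by
      have h2 := congrFun heq y
      simp only [Pi.mul_apply, hls y hy] at h2
      exact (mul_eq_left₀ hne).1 h2.symm
    rw [← hl]
    funext x
    exact H.eq_one_of_linear hlG h1 x
  · intro h1
    exact absurd (Finset.mem_filter.2 ⟨Finset.mem_univ _, fun n => rfl⟩) h1

theorem indFun_one_apply' (H : Cyc G s C) (z : Γ) [Decidable (z ∈ G)] :
    indFun G (1 : G → ℂ) z = if z ∈ G then (orderOf s : ℂ) else 0 := by
  have hconj : ∀ x : Γ, x⁻¹ * z * x ∈ G ↔ z ∈ G := fun x => by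
    refine ⟨fun h => ?_, fun h => ?_⟩
    · simpa [mul_assoc] using H.normal.conj_mem _ h x
    · simpa [mul_assoc] using H.normal.conj_mem _ h x⁻¹
  unfold indFun
  split_ifs with hz
  · have : ∀ x : Γ, extendByZero G (1 : G → ℂ) (x⁻¹ * z * x) = 1 := fun x => by
      rw [extendByZero_mem _ _ ((hconj x).2 hz), Pi.one_apply]
    rw [Finset.sum_congr rfl fun x _ => this x, Finset.sum_const, Finset.card_univ, nsmul_one,
      ← Nat.card_eq_fintype_card, H.card_eq, Nat.cast_mul, ← mul_assoc,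
      inv_mul_cancel₀ (Nat.cast_ne_zero.2 Nat.card_pos.ne'), one_mul]
  · rw [Finset.sum_eq_zero fun x _ => extendByZero_not_mem _ _ (fun h => hz ((hconj x).1 h)),
      mul_zero]

open Classical in
theorem canon_coset_orth (H : Cyc G s C) {χh ψh : Γ → ℂ} (hχ : IsCanon G s χh)
    (hψ : IsCanon G s ψh) :
    ∑ g : G, χh ((g : Γ) * s) * conj (ψh ((g : Γ) * s)) =
      if χh = ψh then (Nat.card G : ℂ) else 0 := by
  haveI := H.normal
  haveI := Fintype.ofFinite (IrrCharacter Γ)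
  obtain ⟨F, hFdef⟩ : ∃ F : Γ → ℂ, F = fun y => χh y * conj (ψh y) := ⟨_, rfl⟩
  have hm : (orderOf s : ℂ) ≠ 0 := Nat.cast_ne_zero.2 (orderOf_pos s).ne'
  apply mul_left_cancel₀ hm
  have h1 : (orderOf s : ℂ) * ∑ g : G, χh ((g : Γ) * s) * conj (ψh ((g : Γ) * s)) =
      ∑ y : Γ, F y * indFun G (1 : G → ℂ) (y * s⁻¹) := by
    simp only [H.indFun_one_apply']
    rw [Finset.mul_sum]
    simp only [mul_ite, mul_zero]
    rw [← Finset.sum_filter]
    refine Finset.sum_bij (fun g _ => (g : Γ) * s) (fun g _ => ?_) (fun a _ b _ hab => ?_)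
      (fun y hy => ?_) (fun g _ => ?_)
    · rw [Finset.mem_filter]
      exact ⟨Finset.mem_univ _, by rw [mul_inv_cancel_right]; exact g.2⟩
    · exact Subtype.ext (mul_right_cancel hab)
    · exact ⟨⟨_, (Finset.mem_filter.1 hy).2⟩, Finset.mem_univ _, inv_mul_cancel_right y s⟩
    · rw [hFdef, mul_comm]
  rw [h1, CharApp.indFun_one_eq_sum G]
  have h2 : ∀ β ∈ Finset.univ.filter (fun β : IrrCharacter Γ => CharApp.TrivOn G (β : Γ → ℂ)),
      ∑ y : Γ, F y * ((β : Γ → ℂ) 1 • (β : Γ → ℂ)) (y * s⁻¹) =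
        (β : Γ → ℂ) s⁻¹ * ((Nat.card Γ : ℂ) * classInner (χh * (β : Γ → ℂ)) ψh) := by
    intro β hβ
    obtain ⟨l, hl, -, -⟩ := H.trivOn_linear β.2 (Finset.mem_filter.1 hβ).2
    rw [← hl, classInner, ← mul_assoc (Nat.card Γ : ℂ),
      mul_inv_cancel₀ (Nat.cast_ne_zero.2 Nat.card_pos.ne'), one_mul, Finset.mul_sum]
    refine Finset.sum_congr rfl fun y _ => ?_
    rw [Pi.smul_apply, map_one, one_smul, map_mul, hFdef, Pi.mul_apply]
    ring
  simp only [Finset.sum_apply, Finset.mul_sum]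
  rw [Finset.sum_comm, Finset.sum_congr rfl h2]
  have h3 : ∀ β : IrrCharacter Γ, CharApp.TrivOn G (β : Γ → ℂ) →
      classInner (χh * (β : Γ → ℂ)) ψh =
        if χh = ψh ∧ β = ⟨1, isIrrCharacter_one⟩ then 1 else 0 := by
    intro β ht
    have hirr := CharApp.gallagher_irr G hχ.1 hχ.2.1 β.2 ht
    split_ifs with h
    · obtain ⟨rfl, rfl⟩ := h
      rw [show χh * ((⟨1, isIrrCharacter_one⟩ : IrrCharacter Γ) : Γ → ℂ) = χh from mul_one _]
      exact classInner_irr_self hχ.1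
    · refine classInner_irr_of_ne hirr hψ.1 fun heq => h ?_
      obtain ⟨l, hl, hlG, -⟩ := H.trivOn_linear β.2 ht
      have he : χh = ψh := H.canon_unique hχ hψ fun g => by
        rw [← heq, Pi.mul_apply, ← hl, hlG g g.2, mul_one]
      refine ⟨he, Subtype.ext (CharApp.gallagher_injective G hχ.1 hχ.2.1 β.2 isIrrCharacter_one ht
        (fun n => rfl) ?_)⟩
      rw [mul_one, heq, he]
  rw [Finset.sum_congr rfl fun β hβ => by rw [h3 β (Finset.mem_filter.1 hβ).2]]
  by_cases he : χh = ψh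
  · rw [if_pos he, Finset.sum_eq_single ⟨1, isIrrCharacter_one⟩]
    · rw [if_pos ⟨he, rfl⟩, H.card_eq, Nat.cast_mul, mul_one,
        show ((⟨1, isIrrCharacter_one⟩ : IrrCharacter Γ) : Γ → ℂ) s⁻¹ = 1 from rfl, one_mul]
      ring
    · intro β _ hb
      rw [if_neg (fun h => hb h.2), mul_zero, mul_zero]
    · intro h1
      exact absurd (Finset.mem_filter.2 ⟨Finset.mem_univ _, fun n => rfl⟩) h1
  · rw [if_neg he, mul_zero]
    exact Finset.sum_eq_zero fun β _ => by rw [if_neg (fun h => he h.1), mul_zero, mul_zero]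

end Cyc

end Cfsg.Agent.GlauberChar
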