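/-
Coprime cyclic action, the correspondence `χh (c s) = ε β c` (namespace `Cfsg.Agent.GlauberChar`).

* `Cyc.isCharacter_multFun` : `t ↦ ⟨χh (· t), β⟩` is a character of `⟨s⟩`
* `Cyc.exists_value`, `Cyc.value_unique`, `Cyc.value_injective`, `Cyc.exists_of_irr`
* `Cyc.apply_generator` : independence of the generator
-/
import Cfsg.Agent.Lib.GlauberChar.CyclicExt
import Cfsg.Agent.Lib.BSW.Values

set_option autoImplicit false

namespace Cfsg.Agent.GlauberChar

open Cfsg Cfsg.Agent.Char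
open scoped ComplexConjugate

namespace Cyc

variable {Γ : Type*} [Group Γ] [Fintype Γ] {G : Subgroup Γ} [Fintype G] {s : Γ} {C : Subgroup Γ}
  [Fintype C]

/-- The multiplicity function on `⟨s⟩`. -/
noncomputable def multFun (_H : Cyc G s C) (χh : Γ → ℂ) (β : C → ℂ) : Subgroup.zpowers s → ℂ :=
  fun t => classInner (fun c : C => χh ((c : Γ) * t)) β

theorem isCharacter_multFun (H : Cyc G s C) {χh : Γ → ℂ} (hχ : IsCharacter Γ χh) {β : C → ℂ}
    (hβ : IsIrrCharacter C β) : IsCharacter (Subgroup.zpowers s) (H.multFun χh β) := by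
  classical
  let μ : C × Subgroup.zpowers s →* Γ :=
    { toFun := fun p => (p.1 : Γ) * p.2
      map_one' := by simp
      map_mul' := fun p q => by
        simp only [Prod.fst_mul, Prod.snd_mul, Subgroup.coe_mul]
        have h := H.comm_zpowers q.1.2 p.2.2
        rw [mul_assoc (p.1 : Γ), ← mul_assoc (q.1 : Γ), h]
        simp only [mul_assoc] }
  have hπ : IsCharacter (C × Subgroup.zpowers s) (fun p => χh (μ p)) := IsCharacter.comp_hom hχ μ
  refine isCharacter_of_classFunction (fun a b => ?_) fun lam => ?_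
  · congr 1
    have hab : b * a * b⁻¹ = a := by
      have : b * a = a * b := Subtype.ext (by
        obtain ⟨i, hi⟩ := Subgroup.mem_zpowers_iff.1 a.2
        obtain ⟨j, hj⟩ := Subgroup.mem_zpowers_iff.1 b.2
        rw [Subgroup.coe_mul, Subgroup.coe_mul, ← hi, ← hj, ← zpow_add, ← zpow_add, add_comm])
      rw [this, mul_inv_cancel_right]
    exact hab
  · obtain ⟨m, hm⟩ := IsCharacter.classInner_nat hπ
      (IsCharacter.prodMul (IsIrrCharacter.isCharacter hβ) (IsIrrCharacter.isCharacter lam.2))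
    refine ⟨m, ?_⟩
    rw [← hm]
    simp only [classInner, multFun, Nat.card_prod, Nat.cast_mul, mul_inv, Fintype.sum_prod_type, map_mul]
    rw [Finset.sum_comm, Finset.mul_sum, Finset.mul_sum]
    refine Finset.sum_congr rfl fun t _ => ?_
    rw [Finset.mul_sum, Finset.sum_mul, Finset.mul_sum, Finset.mul_sum]
    refine Finset.sum_congr rfl fun c _ => ?_
    show _ = _ * (χh ((c : Γ) * t) * _)
    ring

theorem apply_pow (H : Cyc G s C) {χh : Γ → ℂ} (hχ : IsCanon G s χh) {j : ℕ}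
    (hj : j.Coprime (orderOf s)) (c : C) : χh ((c : Γ) * s ^ j) = χh ((c : Γ) * s) := by
  obtain ⟨k, hk1, hk2⟩ := Nat.chineseRemainder H.coprime 1 j
  have hkG : ∀ g ∈ G, g ^ k = g := fun g hg => by
    conv_rhs => rw [← pow_one g]
    exact pow_eq_pow_iff_modEq.2 (hk1.of_dvd (Subgroup.orderOf_dvd_natCard G hg))
  have hks : s ^ k = s ^ j := pow_eq_pow_iff_modEq.2 hk2
  have hkc : k.Coprime (Nat.card Γ) := by
    rw [H.card_eq]
    refine Nat.Coprime.mul_right ?_ ?_
    · rw [Nat.coprime_iff_gcd_eq_one, hk1.gcd_eq, Nat.gcd_one_left]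
    · rw [Nat.coprime_iff_gcd_eq_one, hk2.gcd_eq]
      exact hj
  rw [← H.canon_pow hχ hkc hkG ((c : Γ) * s), Commute.mul_pow (H.comm c.2), hkG c (H.C_le c.2), hks]

theorem apply_generator (H : Cyc G s C) {χh : Γ → ℂ} (hχ : IsCanon G s χh) {s' : Γ}
    (hs' : Subgroup.zpowers s' = Subgroup.zpowers s) (c : C) :
    χh ((c : Γ) * s') = χh ((c : Γ) * s) := by
  have h : s' ∈ Subgroup.zpowers s := hs' ▸ Subgroup.mem_zpowers s'
  rw [← (isOfFinOrder_of_finite s).mem_powers_iff_mem_zpowers] at h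
  obtain ⟨j, rfl⟩ := h
  refine H.apply_pow hχ ?_ c
  have he : orderOf (s ^ j) = orderOf s := by rw [← Nat.card_zpowers, hs', Nat.card_zpowers]
  rw [orderOf_pow] at he
  have hgcd : (orderOf s).gcd j = 1 := by
    rcases Nat.div_eq_self.1 he with h | h
    · exact absurd h (orderOf_pos s).ne'
    · exact h
  rw [Nat.coprime_iff_gcd_eq_one, Nat.gcd_comm]
  exact hgcd

theorem exists_int_coeff (H : Cyc G s C) {χh : Γ → ℂ} (hχ : IsCanon G s χh) (β : IrrCharacter C) :
    ∃ a : ℤ, classInner (fun c : C => χh ((c : Γ) * s)) (β : C → ℂ) = a := by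
  refine BSW.exists_int_of_invariant
    (GaloisAvg.cycloValued_character (H.isCharacter_multFun (IsIrrCharacter.isCharacter hχ.1) β.2))
    ⟨s, Subgroup.mem_zpowers s⟩ fun k hk => ?_
  rw [Nat.card_zpowers] at hk
  unfold multFun
  congr 1
  funext c
  exact H.apply_pow hχ hk c

theorem isClassFunction_value (H : Cyc G s C) {χh : Γ → ℂ} (hχ : IsClassFunction Γ χh) :
    IsClassFunction C (fun c : C => χh ((c : Γ) * s)) := fun a b => by
  show χh (((b * a * b⁻¹ : C) : Γ) * s) = χh ((a : Γ) * s)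
  rw [← hχ ((a : Γ) * s) b]
  congr 1
  push_cast
  rw [mul_assoc _ ((b : Γ)⁻¹) s, show (b : Γ)⁻¹ * s = s * (b : Γ)⁻¹ from
    (H.comm (C.inv_mem b.2))]
  simp only [mul_assoc]

open Classical in
theorem value_orth (H : Cyc G s C) {χh ψh : Γ → ℂ} (hχ : IsCanon G s χh) (hψ : IsCanon G s ψh) :
    classInner (fun c : C => χh ((c : Γ) * s)) (fun c : C => ψh ((c : Γ) * s)) =
      if χh = ψh then 1 else 0 := by
  have hcl : IsClassFunction Γ (fun y => χh y * conj (ψh y)) := fun a b => by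
    show χh _ * conj (ψh _) = _
    rw [IsIrrCharacter.isClassFunction hχ.1 a b, IsIrrCharacter.isClassFunction hψ.1 a b]
  have h := H.sum_coset hcl
  rw [H.canon_coset_orth hχ hψ] at h
  have hG : (Nat.card G : ℂ) ≠ 0 := Nat.cast_ne_zero.2 Nat.card_pos.ne'
  have hC : (Nat.card C : ℂ) ≠ 0 := Nat.cast_ne_zero.2 Nat.card_pos.ne'
  unfold classInner
  apply mul_left_cancel₀ hG
  rw [mul_left_comm, ← h, ← mul_assoc, inv_mul_cancel₀ hC, one_mul]
  split_ifs <;> simp

theorem exists_value (H : Cyc G s C) {χh : Γ → ℂ} (hχ : IsCanon G s χh) :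
    ∃ (β : IrrCharacter C) (ε : ℤ), (ε = 1 ∨ ε = -1) ∧
      ∀ c : C, χh ((c : Γ) * s) = (ε : ℂ) * (β : C → ℂ) c := by
  classical
  haveI := Fintype.ofFinite (IrrCharacter C)
  choose a ha using H.exists_int_coeff hχ
  have hf := H.isClassFunction_value (IsIrrCharacter.isClassFunction hχ.1)
  have h1 : ∑ β, a β * a β = 1 := by
    have h := classInner_eq_sum hf (fun c : C => χh ((c : Γ) * s))
    rw [H.value_orth hχ hχ, if_pos rfl] at h
    simp only [ha, map_intCast] at h
    exact_mod_cast h.symm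
  obtain ⟨β, hβ⟩ : ∃ β, a β ≠ 0 := by
    by_contra hno
    push Not at hno
    rw [Finset.sum_eq_zero fun b _ => by rw [hno b, mul_zero]] at h1
    exact zero_ne_one h1
  have hrest : ∀ γ, γ ≠ β → a γ = 0 := by
    intro γ hγ
    by_contra hγ0
    have h2 : a β * a β + a γ * a γ ≤ 1 := by
      rw [← h1, ← Finset.sum_pair hγ.symm (f := fun b => a b * a b)]
      exact Finset.sum_le_sum_of_subset_of_nonneg (Finset.subset_univ _)
        fun b _ _ => mul_self_nonneg _
    have h3 := mul_self_pos.2 hβ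
    have h4 := mul_self_pos.2 hγ0
    omega
  have hsq : a β * a β = 1 := by
    rw [← h1, Finset.sum_eq_single β (fun b _ hb => by rw [hrest b hb, mul_zero])
      (fun h => absurd (Finset.mem_univ _) h)]
  refine ⟨β, a β, Int.eq_one_or_neg_one_of_mul_eq_one hsq, fun c => ?_⟩
  have h := congrFun (classFunction_eq_sum hf) c
  rw [h, Finset.sum_apply, Finset.sum_eq_single β (fun b _ hb => ?_)
    (fun h => absurd (Finset.mem_univ _) h)]
  · rw [Pi.smul_apply, ha, smul_eq_mul]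
  · rw [Pi.smul_apply, ha, hrest b hb, Int.cast_zero, zero_smul]

omit [Fintype Γ] [Fintype G] in
theorem classInner_value (H : Cyc G s C) {χh : Γ → ℂ} {β : IrrCharacter C} {ε : ℤ}
    (hv : ∀ c : C, χh ((c : Γ) * s) = (ε : ℂ) * (β : C → ℂ) c) (γ : IrrCharacter C)
    [Decidable (β = γ)] :
    classInner (fun c : C => χh ((c : Γ) * s)) (γ : C → ℂ) = if β = γ then (ε : ℂ) else 0 := by
  have _ := H
  rw [show (fun c : C => χh ((c : Γ) * s)) = (ε : ℂ) • (β : C → ℂ) from funext hv,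
    classInner_smul_left]
  split_ifs with h
  · rw [h, classInner_irr_self γ.2, mul_one]
  · rw [classInner_irr_of_ne β.2 γ.2 fun e => h (Subtype.ext e), mul_zero]

theorem value_unique (H : Cyc G s C) {χh : Γ → ℂ} {β β' : IrrCharacter C} {ε ε' : ℤ}
    (hε : ε = 1 ∨ ε = -1) (hv : ∀ c : C, χh ((c : Γ) * s) = (ε : ℂ) * (β : C → ℂ) c)
    (hv' : ∀ c : C, χh ((c : Γ) * s) = (ε' : ℂ) * (β' : C → ℂ) c) : β' = β ∧ ε' = ε := by
  classical
  have h1 := H.classInner_value hv β
  rw [H.classInner_value hv' β, if_pos rfl] at h1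
  split_ifs at h1 with h
  · exact ⟨h, by exact_mod_cast h1⟩
  · exfalso
    have : ε = 0 := by exact_mod_cast h1.symm
    omega

theorem value_constituent (H : Cyc G s C) {χh : Γ → ℂ} (hχ : IsCharacter Γ χh) {β : IrrCharacter C}
    {ε : ℤ} (hε : ε = 1 ∨ ε = -1)
    (hv : ∀ c : C, χh ((c : Γ) * s) = (ε : ℂ) * (β : C → ℂ) c) :
    classInner (fun c : C => χh c) (β : C → ℂ) ≠ 0 := by
  classical
  intro h0
  have hm := H.isCharacter_multFun hχ β.2
  have h1 : H.multFun χh β 1 = 0 := by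
    show classInner (fun c : C => χh ((c : Γ) * ((1 : Subgroup.zpowers s) : Γ))) _ = 0
    simp only [Subgroup.coe_one, mul_one]
    exact h0
  have h2 := IsCharacter.norm_le hm ⟨s, Subgroup.mem_zpowers s⟩
  rw [h1] at h2
  simp only [Complex.zero_re, norm_le_zero_iff] at h2
  change classInner (fun c : C => χh ((c : Γ) * s)) (β : C → ℂ) = 0 at h2
  rw [H.classInner_value hv β, if_pos rfl] at h2
  have : ε = 0 := by exact_mod_cast h2
  omega

theorem value_injective (H : Cyc G s C) {χh ψh : Γ → ℂ} (hχ : IsCanon G s χh) (hψ : IsCanon G s ψh)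
    {β : IrrCharacter C} {ε ε' : ℤ} (hε : ε = 1 ∨ ε = -1) (hε' : ε' = 1 ∨ ε' = -1)
    (hv : ∀ c : C, χh ((c : Γ) * s) = (ε : ℂ) * (β : C → ℂ) c)
    (hv' : ∀ c : C, ψh ((c : Γ) * s) = (ε' : ℂ) * (β : C → ℂ) c) : χh = ψh := by
  classical
  by_contra hne
  have h := H.value_orth hχ hψ
  rw [if_neg hne, show (fun c : C => χh ((c : Γ) * s)) = (ε : ℂ) • (β : C → ℂ) from funext hv,
    show (fun c : C => ψh ((c : Γ) * s)) = (ε' : ℂ) • (β : C → ℂ) from funext hv',
    classInner_smul_left, classInner_smul_right, classInner_irr_self β.2, mul_one, map_intCast] at h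
  have : ε * ε' = 0 := by exact_mod_cast h
  rcases mul_eq_zero.1 this with h | h <;> omega

theorem exists_of_irr (H : Cyc G s C) (β : IrrCharacter C) :
    ∃ (χh : Γ → ℂ) (ε : ℤ), IsCanon G s χh ∧ (ε = 1 ∨ ε = -1) ∧
      ∀ c : C, χh ((c : Γ) * s) = (ε : ℂ) * (β : C → ℂ) c := by
  classical
  haveI := H.normal
  obtain ⟨F, hF, hFc, hF0⟩ := H.exists_ext_classFunction (IsIrrCharacter.isClassFunction β.2)
  have hFne : F ≠ 0 := fun h => by
    have := hFc 1
    rw [h, Pi.zero_apply] at this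
    exact IsIrrCharacter.apply_one_ne_zero β.2 this.symm
  obtain ⟨ψ, hψ⟩ : ∃ ψ : IrrCharacter Γ, classInner F (ψ : Γ → ℂ) ≠ 0 := by
    by_contra hno
    push Not at hno
    exact hFne (eq_zero_of_forall_classInner_irr hF hno)
  obtain ⟨y, hy, hψy⟩ : ∃ y : Γ, y * s⁻¹ ∈ G ∧ (ψ : Γ → ℂ) y ≠ 0 := by
    by_contra hno
    push Not at hno
    refine hψ ?_
    rw [classInner, Finset.sum_eq_zero, mul_zero]
    intro y _
    by_cases hy : y * s⁻¹ ∈ G
    · rw [hno y hy, map_zero, mul_zero]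
    · rw [hF0 y hy, zero_mul]
  have hres := H.irr_restrict ψ.2 hy hψy
  obtain ⟨χh, ⟨hχ, hχres⟩, -⟩ := H.exists_canon hres
    (fun x g => IsIrrCharacter.isClassFunction ψ.2 g x)
  obtain ⟨γ, ε, hε, hv⟩ := H.exists_value hχ
  refine ⟨χh, ε, hχ, hε, ?_⟩
  by_cases hγ : γ = β
  · exact hγ ▸ hv
  exfalso
  obtain ⟨b, hb, hbt, hbe⟩ := CharApp.gallagher_exhaustive G hχ.1 hχ.2.1 ψ.2 (by
    rw [show (fun g : G => χh g) = fun g : G => (ψ : Γ → ℂ) g from funext hχres,
      classInner_irr_self hres]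
    exact one_ne_zero)
  obtain ⟨l, hl, -, hls⟩ := H.trivOn_linear hb hbt
  refine hψ ?_
  have hcl : IsClassFunction Γ (fun z => F z * conj (χh z)) := fun a b => by
    show F _ * conj (χh _) = _
    rw [hF a b, IsIrrCharacter.isClassFunction hχ.1 a b]
  have h0 : ∑ g : G, F ((g : Γ) * s) * conj (χh ((g : Γ) * s)) = 0 := by
    have h := H.sum_coset hcl
    have h2 : ∑ c : C, F ((c : Γ) * s) * conj (χh ((c : Γ) * s)) = 0 := by
      have h3 := classInner_irr_of_ne β.2 γ.2 fun e => hγ (Subtype.ext e.symm)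
      rw [classInner, mul_eq_zero] at h3
      simp only [hFc, hv, map_mul, map_intCast, mul_left_comm ((β : C → ℂ) _)]
      rw [← Finset.mul_sum, h3.resolve_left (inv_ne_zero (Nat.cast_ne_zero.2 Nat.card_pos.ne')),
        mul_zero]
    rw [h2, mul_zero, mul_eq_zero] at h
    exact h.resolve_left (Nat.cast_ne_zero.2 Nat.card_pos.ne')
  rw [classInner, mul_eq_zero]
  right
  rw [← Finset.sum_subset (Finset.subset_univ (Finset.univ.filter fun z : Γ => z * s⁻¹ ∈ G))
    fun z _ hz => by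
      rw [hF0 z (fun h => hz (Finset.mem_filter.2 ⟨Finset.mem_univ _, h⟩)), zero_mul]]
  have hterm : ∀ z ∈ Finset.univ.filter (fun z : Γ => z * s⁻¹ ∈ G),
      F z * conj ((ψ : Γ → ℂ) z) = conj (l s) * (F z * conj (χh z)) := fun z hz => by
    rw [hbe, Pi.mul_apply, ← hl, hls z (Finset.mem_filter.1 hz).2, map_mul]
    ring
  rw [Finset.sum_congr rfl hterm, ← Finset.mul_sum, mul_eq_zero]
  right
  rw [← h0]
  symm
  refine Finset.sum_bij (fun g _ => (g : Γ) * s) (fun g _ => ?_) (fun a _ b _ hab => ?_)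
    (fun z hz => ?_) (fun g _ => rfl)
  · rw [Finset.mem_filter]
    exact ⟨Finset.mem_univ _, by rw [mul_inv_cancel_right]; exact g.2⟩
  · exact Subtype.ext (mul_right_cancel hab)
  · exact ⟨⟨_, (Finset.mem_filter.1 hz).2⟩, Finset.mem_univ _, inv_mul_cancel_right z s⟩

end Cyc

end Cfsg.Agent.GlauberChar
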