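/-
Adapters from a cyclic subgroup `S` to `Cyc` (namespace `Cfsg.Agent.GlauberChar`).
-/
import Cfsg.Agent.Lib.GlauberChar.CyclicCorr
import Mathlib.GroupTheory.Subgroup.Centralizer

set_option autoImplicit false

namespace Cfsg.Agent.GlauberChar

open Cfsg Cfsg.Agent.Char

variable {Γ : Type*} [Group Γ] {G S C : Subgroup Γ}

theorem normal_of_normalized (hnorm : ∀ s ∈ S, ∀ g ∈ G, s * g * s⁻¹ ∈ G) (htop : G ⊔ S = ⊤) :
    G.Normal := by
  refine Subgroup.normalizer_eq_top_iff.1 (top_le_iff.1 (htop ▸ sup_le Subgroup.le_normalizer ?_))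
  intro x hx
  rw [Subgroup.mem_normalizer_iff]
  refine fun h => ⟨fun hh => hnorm x hx h hh, fun hh => ?_⟩
  have := hnorm x⁻¹ (S.inv_mem hx) _ hh
  simpa [mul_assoc] using this

theorem cyc_of_generator (hnorm : ∀ s ∈ S, ∀ g ∈ G, s * g * s⁻¹ ∈ G)
    (hcop : (Nat.card G).Coprime (Nat.card S)) (htop : G ⊔ S = ⊤) {s : Γ}
    (hs : Subgroup.zpowers s = S) (hC : C = G ⊓ Subgroup.centralizer (S : Set Γ)) : Cyc G s C where
  normal := normal_of_normalized hnorm htop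
  coprime := by rwa [← Nat.card_zpowers, hs]
  gen := by rwa [hs]
  mem_iff x := by
    subst hC
    rw [Subgroup.mem_inf, Subgroup.mem_centralizer_iff]
    refine and_congr_right fun _ => ⟨fun h => (h s (hs ▸ Subgroup.mem_zpowers s)).symm, fun h y hy => ?_⟩
    rw [← hs, SetLike.mem_coe, Subgroup.mem_zpowers_iff] at hy
    obtain ⟨j, rfl⟩ := hy
    exact ((Commute.zpow_right (show Commute x s from h) j).eq).symm

theorem exists_generator (hcyc : IsCyclic S) : ∃ s : Γ, Subgroup.zpowers s = S := by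
  obtain ⟨s, hs⟩ := hcyc.exists_generator
  refine ⟨s, le_antisymm (Subgroup.zpowers_le.2 s.2) fun x hx => ?_⟩
  obtain ⟨j, hj⟩ := Subgroup.mem_zpowers_iff.1 (hs ⟨x, hx⟩)
  exact Subgroup.mem_zpowers_iff.2 ⟨j, by
    rw [show (x : Γ) = ((⟨x, hx⟩ : S) : Γ) from rfl, ← hj, SubgroupClass.coe_zpow]⟩

/-- Invariance under `S` gives invariance under `G ⊔ S = ⊤`. -/
theorem invariant_of_generator (hnorm : ∀ s ∈ S, ∀ g ∈ G, s * g * s⁻¹ ∈ G) (htop : G ⊔ S = ⊤)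
    {χ : G → ℂ} (hcl : IsClassFunction G χ)
    (hinv : ∀ s ∈ S, ∀ g g' : G, (g' : Γ) = s * g * s⁻¹ → χ g' = χ g) (x : Γ) (g : G) :
    χ ⟨x * g * x⁻¹, (normal_of_normalized hnorm htop).conj_mem g g.2 x⟩ = χ g := by
  haveI := normal_of_normalized hnorm htop
  have hx : x ∈ G ⊔ S := htop ▸ Subgroup.mem_top x
  rw [Subgroup.mem_sup_of_normal_left] at hx
  obtain ⟨y, hy, t, ht, rfl⟩ := hx
  rw [show (⟨y * t * g * (y * t)⁻¹, this.conj_mem g g.2 (y * t)⟩ : G) =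
    ⟨y, hy⟩ * ⟨t * g * t⁻¹, hnorm t ht g g.2⟩ * (⟨y, hy⟩ : G)⁻¹ from Subtype.ext (by simp [mul_assoc]),
    hcl]
  exact hinv t ht g _ rfl

end Cfsg.Agent.GlauberChar
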