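/-
Cyclic coprime action, all nonidentity elements with the same fixed points
(namespace `Cfsg.Agent.GlauberChar`).

* `Cyc.exists_int_mult` : the multiplicity function is integer valued
* `Cyc.sum_sq_mult` : the multiplicities at `x` have square sum one when `C_G(x) = C`
* `eq_of_pow_four` : integral character values `±1` at `x²` and `x⁴` agree
-/
import Cfsg.Agent.Lib.GlauberChar.CyclicCorr
import Cfsg.Agent.Lib.CentralChar.Congr

set_option autoImplicit false

namespace Cfsg.Agent.GlauberChar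

open Cfsg Cfsg.Agent.Char
open scoped ComplexConjugate

theorem exists_power_sums {ι : Type*} (t : Finset ι) {f : ι → ℂ} (hf : ∀ i ∈ t, IsIntegral ℤ (f i)) :
    ∃ a a' b : ℂ, IsIntegral ℤ a ∧ IsIntegral ℤ b ∧ (∑ i ∈ t, f i) ^ 2 = ∑ i ∈ t, f i ^ 2 + 2 * a ∧
      (∑ i ∈ t, f i ^ 2) ^ 2 = ∑ i ∈ t, f i ^ 4 + 2 * a' ∧ a ^ 2 = a' + 2 * b := by
  classical
  induction t using Finset.induction_on with
  | empty => exact ⟨0, 0, 0, isIntegral_zero, isIntegral_zero, by simp, by simp, by simp⟩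
  | insert x t hx ih =>
    obtain ⟨a, a', b, ha, hb, h1, h2, h3⟩ := ih fun i hi => hf i (Finset.mem_insert_of_mem hi)
    have hS : IsIntegral ℤ (∑ i ∈ t, f i) :=
      IsIntegral.sum _ fun i hi => hf i (Finset.mem_insert_of_mem hi)
    have hfx := hf x (Finset.mem_insert_self x t)
    refine ⟨a + f x * ∑ i ∈ t, f i, a' + f x ^ 2 * ∑ i ∈ t, f i ^ 2,
      b + f x * a * (∑ i ∈ t, f i) + f x ^ 2 * a, ha.add (hfx.mul hS),
      (hb.add ((hfx.mul ha).mul hS)).add ((hfx.pow 2).mul ha), ?_, ?_, ?_⟩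
    · rw [Finset.sum_insert hx, Finset.sum_insert hx]; linear_combination h1
    · rw [Finset.sum_insert hx, Finset.sum_insert hx]; linear_combination h2
    · linear_combination h3 + f x ^ 2 * h1

theorem not_isIntegral_half {r : ℂ} (h : 2 * r = 1 ∨ 2 * r = -1) : ¬ IsIntegral ℤ r := by
  intro hr
  have key : ∀ r : ℂ, IsIntegral ℤ r → 2 * r ≠ 1 := by
    intro r hr h
    have e : r = algebraMap ℚ ℂ (1 / 2) := by
      rw [map_div₀, map_one, map_ofNat]; linear_combination h / 2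
    rw [e, isIntegral_algebraMap_iff (algebraMap ℚ ℂ).injective] at hr
    obtain ⟨m, hm⟩ := IsIntegrallyClosed.isIntegral_iff.mp hr
    have h2 : ((2 * m : ℤ) : ℚ) = ((1 : ℤ) : ℚ) := by
      push_cast
      rw [show (m : ℚ) = 1 / 2 by simpa using hm]
      norm_num
    have := Int.cast_inj.1 h2
    omega
  rcases h with h | h
  · exact key r hr h
  · exact key (-r) hr.neg (by linear_combination -h)

/-- If the values at `x`, `x²`, `x⁴` are signs, those at `x²` and `x⁴` agree. -/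
theorem eq_of_pow_four {T : Type*} [Group T] [Finite T] {χ : T → ℂ} (hχ : IsCharacter T χ) (x : T)
    {u v w : ℤ} (hu : χ x = u) (hv : χ (x ^ 2) = v) (hw : χ (x ^ 4) = w)
    (h1 : u = 1 ∨ u = -1) (h2 : v = 1 ∨ v = -1) (h4 : w = 1 ∨ w = -1) : v = w := by
  obtain ⟨n, ρ, rfl⟩ := hχ
  obtain ⟨b, μ, hμ, hroot⟩ := Char.exists_eigenbasis ρ x
  rw [Char.character_eq_sum_eigenvalues ρ x b μ hμ] at hu
  rw [Char.character_pow ρ x b μ hμ] at hv hw
  obtain ⟨a, a', c, ha, hc, e1, e2, e3⟩ := exists_power_sums Finset.univ (f := μ) fun i _ =>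
    IsIntegral.of_pow (orderOf_pos x) (by rw [hroot i]; exact isIntegral_one)
  rw [hu, hv] at e1
  rw [hv, hw] at e2
  by_contra hne
  have hu2 : (u : ℂ) ^ 2 = 1 := by rcases h1 with rfl | rfl <;> norm_num
  rw [hu2] at e1
  rcases h2 with rfl | rfl
  · have hw1 : w = -1 := by omega
    subst hw1
    have ha0 : a = 0 := by push_cast at e1; linear_combination -e1 / 2
    subst ha0
    refine not_isIntegral_half (r := c) (Or.inr ?_) hc
    push_cast at e2
    linear_combination e2 / 2 - e3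
  · have hw1 : w = 1 := by omega
    subst hw1
    have ha0 : a = 1 := by push_cast at e1; linear_combination -e1 / 2
    subst ha0
    refine not_isIntegral_half (r := c) (Or.inl ?_) hc
    push_cast at e2
    linear_combination e2 / 2 - e3

namespace Cyc

variable {Γ : Type*} [Group Γ] [Fintype Γ] {G : Subgroup Γ} [Fintype G] {s : Γ} {C : Subgroup Γ}
  [Fintype C]

theorem apply_pow_pow (H : Cyc G s C) {χh : Γ → ℂ} (hχ : IsCanon G s χh) {t : Γ}
    (ht : t ∈ Subgroup.zpowers s) {j : ℕ} (hj : j.Coprime (orderOf s)) (c : C) :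
    χh ((c : Γ) * t ^ j) = χh ((c : Γ) * t) := by
  obtain ⟨k, hk1, hk2⟩ := Nat.chineseRemainder H.coprime 1 j
  have hkG : ∀ g ∈ G, g ^ k = g := fun g hg => by
    conv_rhs => rw [← pow_one g]
    exact pow_eq_pow_iff_modEq.2 (hk1.of_dvd (Subgroup.orderOf_dvd_natCard G hg))
  have hkt : t ^ k = t ^ j :=
    pow_eq_pow_iff_modEq.2 (hk2.of_dvd (orderOf_dvd_of_mem_zpowers ht))
  have hkc : k.Coprime (Nat.card Γ) := by
    rw [H.card_eq]
    refine Nat.Coprime.mul_right ?_ ?_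
    · rw [Nat.coprime_iff_gcd_eq_one, hk1.gcd_eq, Nat.gcd_one_left]
    · rw [Nat.coprime_iff_gcd_eq_one, hk2.gcd_eq]
      exact hj
  rw [← H.canon_pow hχ hkc hkG ((c : Γ) * t), Commute.mul_pow (H.comm_zpowers c.2 ht),
    hkG c (H.C_le c.2), hkt]

theorem exists_int_mult (H : Cyc G s C) {χh : Γ → ℂ} (hχ : IsCanon G s χh) (β : IrrCharacter C)
    (t : Subgroup.zpowers s) : ∃ a : ℤ, H.multFun χh (β : C → ℂ) t = a := by
  refine BSW.exists_int_of_invariant
    (GaloisAvg.cycloValued_character (H.isCharacter_multFun (IsIrrCharacter.isCharacter hχ.1) β.2))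
    t fun k hk => ?_
  rw [Nat.card_zpowers] at hk
  unfold multFun
  congr 1
  funext c
  exact H.apply_pow_pow hχ t.2 hk c

theorem canon_norm (H : Cyc G s C) {χh : Γ → ℂ} (hχ : IsCanon G s χh) (x : Γ) :
    ∑ g : G, χh ((g : Γ) * x) * conj (χh ((g : Γ) * x)) = (Nat.card G : ℂ) := by
  classical
  haveI := H.normal
  haveI := Fintype.ofFinite (IrrCharacter Γ)
  obtain ⟨F, hFdef⟩ : ∃ F : Γ → ℂ, F = fun y => χh y * conj (χh y) := ⟨_, rfl⟩
  have hm : (orderOf s : ℂ) ≠ 0 := Nat.cast_ne_zero.2 (orderOf_pos s).ne'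
  apply mul_left_cancel₀ hm
  have h1 : (orderOf s : ℂ) * ∑ g : G, χh ((g : Γ) * x) * conj (χh ((g : Γ) * x)) =
      ∑ y : Γ, F y * indFun G (1 : G → ℂ) (y * x⁻¹) := by
    simp only [H.indFun_one_apply']
    rw [Finset.mul_sum]
    simp only [mul_ite, mul_zero]
    rw [← Finset.sum_filter]
    refine Finset.sum_bij (fun g _ => (g : Γ) * x) (fun g _ => ?_) (fun a _ b _ hab => ?_)
      (fun y hy => ?_) (fun g _ => ?_)
    · rw [Finset.mem_filter]
      exact ⟨Finset.mem_univ _, by rw [mul_inv_cancel_right]; exact g.2⟩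
    · exact Subtype.ext (mul_right_cancel hab)
    · exact ⟨⟨_, (Finset.mem_filter.1 hy).2⟩, Finset.mem_univ _, inv_mul_cancel_right y x⟩
    · rw [hFdef, mul_comm]
  rw [h1, CharApp.indFun_one_eq_sum G]
  simp only [Finset.sum_apply, Finset.mul_sum]
  rw [Finset.sum_comm, Finset.sum_eq_single ⟨1, isIrrCharacter_one⟩]
  · simp only [Pi.smul_apply, Pi.one_apply, smul_eq_mul, mul_one, hFdef]
    have h := classInner_irr_self hχ.1
    rw [classInner, inv_mul_eq_iff_eq_mul₀ (Nat.cast_ne_zero.2 Nat.card_pos.ne'), mul_one] at h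
    rw [h, H.card_eq, Nat.cast_mul]
    ring
  · intro β hβ hb
    have ht := (Finset.mem_filter.1 hβ).2
    obtain ⟨l, hl, -, -⟩ := H.trivOn_linear β.2 ht
    have h0 := classInner_irr_of_ne (CharApp.gallagher_irr G hχ.1 hχ.2.1 β.2 ht) hχ.1 fun he =>
      hb (Subtype.ext (CharApp.gallagher_injective G hχ.1 hχ.2.1 β.2 isIrrCharacter_one ht
        (fun n => rfl) (by rw [he, mul_one])))
    rw [classInner, mul_eq_zero] at h0
    rw [← mul_zero (l x⁻¹), ← h0.resolve_left (inv_ne_zero (Nat.cast_ne_zero.2 Nat.card_pos.ne')),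
      Finset.mul_sum]
    refine Finset.sum_congr rfl fun y _ => ?_
    rw [← hl, Pi.smul_apply, map_one, one_smul, map_mul, hFdef, Pi.mul_apply]
    ring
  · intro h1
    exact absurd (Finset.mem_filter.2 ⟨Finset.mem_univ _, fun n => rfl⟩) h1

theorem sum_coset_of_mem (H : Cyc G s C) {x : Γ} (hx : x ∈ Subgroup.zpowers s)
    (hC : ∀ g ∈ G, g * x = x * g → g ∈ C) {F : Γ → ℂ} (hF : IsClassFunction Γ F) :
    (Nat.card C : ℂ) * ∑ g : G, F ((g : Γ) * x) = (Nat.card G : ℂ) * ∑ c : C, F ((c : Γ) * x) := by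
  classical
  haveI := H.normal
  obtain ⟨L, hL⟩ : ∃ L, L = G ⊔ Subgroup.zpowers x := ⟨_, rfl⟩
  have hGL : G ≤ L := hL ▸ le_sup_left
  have hCL : C ≤ L := H.C_le.trans hGL
  have hxL : x ∈ L := hL ▸ (le_sup_right : Subgroup.zpowers x ≤ _) (Subgroup.mem_zpowers x)
  have H' : Cyc (G.subgroupOf L) (⟨x, hxL⟩ : L) (C.subgroupOf L) :=
    { normal := inferInstance
      coprime := by
        rw [Nat.card_congr (Subgroup.subgroupOfEquivOfLe hGL).toEquiv, Subgroup.orderOf_mk]
        exact H.coprime.coprime_dvd_right (orderOf_dvd_of_mem_zpowers hx)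
      gen := by
        rw [eq_top_iff]
        rintro ⟨y, hy⟩ -
        rw [hL, Subgroup.mem_sup_of_normal_left] at hy
        obtain ⟨g, hg, t, ht, hgt⟩ := hy
        obtain ⟨j, rfl⟩ := Subgroup.mem_zpowers_iff.1 ht
        rw [show (⟨y, by rw [← hgt]; exact L.mul_mem (hGL hg) (L.zpow_mem hxL j)⟩ : L) =
          ⟨g, hGL hg⟩ * (⟨x, hxL⟩ : L) ^ j from Subtype.ext (by push_cast; exact hgt.symm)]
        exact Subgroup.mul_mem_sup hg (Subgroup.zpow_mem _ (Subgroup.mem_zpowers _) j)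
      mem_iff := fun y => by
        rw [Subgroup.mem_subgroupOf, Subgroup.mem_subgroupOf]
        refine ⟨fun hy => ⟨H.C_le hy, Subtype.ext (H.comm_zpowers hy hx)⟩, fun h => ?_⟩
        exact hC _ h.1 (congrArg Subtype.val h.2) }
  haveI := Fintype.ofFinite (G.subgroupOf L)
  haveI := Fintype.ofFinite (C.subgroupOf L)
  have hF' : IsClassFunction L (fun y : L => F y) := fun a b => hF a b
  have h := H'.sum_coset hF'
  rw [Nat.card_congr (Subgroup.subgroupOfEquivOfLe hGL).toEquiv,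
    Nat.card_congr (Subgroup.subgroupOfEquivOfLe hCL).toEquiv] at h
  rw [← Fintype.sum_equiv (Subgroup.subgroupOfEquivOfLe hGL).toEquiv
      (fun g => F (((g : L) : Γ) * x)) (fun g => F ((g : Γ) * x)) (fun _ => rfl),
    ← Fintype.sum_equiv (Subgroup.subgroupOfEquivOfLe hCL).toEquiv
      (fun g => F (((g : L) : Γ) * x)) (fun g => F ((g : Γ) * x)) (fun _ => rfl)]
  exact h

theorem isClassFunction_mul_mem (H : Cyc G s C) {χh : Γ → ℂ} (hχ : IsClassFunction Γ χh) {t : Γ}
    (ht : t ∈ Subgroup.zpowers s) : IsClassFunction C (fun c : C => χh ((c : Γ) * t)) := fun a b => by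
  show χh (((b * a * b⁻¹ : C) : Γ) * t) = χh ((a : Γ) * t)
  rw [← hχ ((a : Γ) * t) b]
  congr 1
  push_cast
  rw [mul_assoc _ ((b : Γ)⁻¹) t, show (b : Γ)⁻¹ * t = t * (b : Γ)⁻¹ from
    H.comm_zpowers (C.inv_mem b.2) ht]
  simp only [mul_assoc]

theorem sum_sq_mult (H : Cyc G s C) {χh : Γ → ℂ} (hχ : IsCanon G s χh) [Fintype (IrrCharacter C)]
    (t : Subgroup.zpowers s) (hC : ∀ g ∈ G, g * (t : Γ) = t * g → g ∈ C) (a : IrrCharacter C → ℤ)
    (ha : ∀ β : IrrCharacter C, H.multFun χh (β : C → ℂ) t = a β) :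
    ∑ β, a β * a β = 1 := by
  have hf := H.isClassFunction_mul_mem (IsIrrCharacter.isClassFunction hχ.1) t.2
  have h := classInner_eq_sum hf (fun c : C => χh ((c : Γ) * t))
  have hcl : IsClassFunction Γ (fun y => χh y * conj (χh y)) := fun p q => by
    show χh _ * conj (χh _) = _
    rw [IsIrrCharacter.isClassFunction hχ.1 p q]
  have h2 := H.sum_coset_of_mem t.2 hC hcl
  rw [H.canon_norm hχ] at h2
  have h1 : classInner (fun c : C => χh ((c : Γ) * t)) (fun c : C => χh ((c : Γ) * t)) = 1 := by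
    have hG : (Nat.card G : ℂ) ≠ 0 := Nat.cast_ne_zero.2 Nat.card_pos.ne'
    have hC' : (Nat.card C : ℂ) ≠ 0 := Nat.cast_ne_zero.2 Nat.card_pos.ne'
    unfold classInner
    apply mul_left_cancel₀ hG
    rw [mul_left_comm, ← h2, ← mul_assoc, inv_mul_cancel₀ hC', one_mul, mul_one]
  rw [h1] at h
  unfold multFun at ha
  simp only [ha, map_intCast] at h
  exact_mod_cast h.symm

end Cyc

end Cfsg.Agent.GlauberChar
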