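/-
Coprime action of a solvable group `S ≤ Aut G` (namespace `Cfsg.Agent.GlauberChar`).

* `restrictAct` : restriction of an action to an invariant subgroup
* `classInner_ne_zero_of_corr` : the correspondence respects lying over an invariant normal subgroup
* `card_fixed_eq` : as many fixed irreducibles as fixed classes
* `exists_fixed_over` : a fixed character of an invariant normal subgroup lies under a fixed character
-/
import Cfsg.Agent.Lib.GlauberChar.Basic
import Cfsg.Agent.Lib.CliffordChar.Basic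
import Cfsg.Agent.Lib.Solvable.Basic
import Cfsg.Agent.S0887

set_option autoImplicit false

namespace Cfsg.Agent.GlauberChar

open Cfsg Cfsg.Agent.Char
open scoped ComplexConjugate

variable {G : Type*} [Group G] {P : Type*} [Group P]

/-- Restriction of an action to an invariant subgroup. -/
def restrictAct (φ : P →* MulAut G) (H : Subgroup G) (hH : ∀ (s : P), ∀ h ∈ H, φ s h ∈ H) :
    P →* MulAut H where
  toFun s :=
    { toFun := fun h => ⟨φ s h, hH s h h.2⟩
      invFun := fun h => ⟨φ s⁻¹ h, hH s⁻¹ h h.2⟩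
      left_inv := fun h => Subtype.ext (by
        show φ s⁻¹ (φ s (h : G)) = h
        rw [← MulAut.mul_apply, ← map_mul, inv_mul_cancel, map_one]; rfl)
      right_inv := fun h => Subtype.ext (by
        show φ s (φ s⁻¹ (h : G)) = h
        rw [← MulAut.mul_apply, ← map_mul, mul_inv_cancel, map_one]; rfl)
      map_mul' := fun a b => Subtype.ext (map_mul (φ s) (a : G) b) }
  map_one' := by
    refine MulEquiv.ext fun h => Subtype.ext ?_
    show φ 1 (h : G) = h
    rw [map_one]; rfl
  map_mul' s t := by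
    refine MulEquiv.ext fun h => Subtype.ext ?_
    show φ (s * t) (h : G) = φ s (φ t (h : G))
    rw [map_mul]; rfl

@[simp] theorem restrictAct_coe (φ : P →* MulAut G) (H : Subgroup G)
    (hH : ∀ (s : P), ∀ h ∈ H, φ s h ∈ H) (s : P) (h : H) :
    ((restrictAct φ H hH s h : H) : G) = φ s h := rfl

/-- The fixed points in `N` form `N.subgroupOf (fixedSub φ)`. -/
def fixedSubEquiv (φ : P →* MulAut G) (N : Subgroup G) (hN : ∀ (s : P), ∀ h ∈ N, φ s h ∈ N) :
    fixedSub (restrictAct φ N hN) ≃* N.subgroupOf (fixedSub φ) where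
  toFun x := ⟨⟨((x : N) : G), fun s => congrArg Subtype.val (x.2 s)⟩, (x : N).2⟩
  invFun y := ⟨⟨((y : fixedSub φ) : G), y.2⟩, fun s => Subtype.ext ((y : fixedSub φ).2 s)⟩
  left_inv x := rfl
  right_inv y := rfl
  map_mul' a b := rfl

variable [Fintype G] (φ : P →* MulAut G) [Fintype (fixedSub φ)] {p : ℕ} [hp : Fact p.Prime] [Finite P]

/-- The multiplicity over a normal subgroup is prime to `p`. -/
theorem not_dvd_multiplicity {C : Type*} [Group C] [Fintype C] (M : Subgroup C) [M.Normal] [Fintype M]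
    (hC : ¬ p ∣ Nat.card C) {χ : C → ℂ} (hχ : IsIrrCharacter C χ) {θ : M → ℂ}
    (hθ : IsIrrCharacter M θ) {e : ℕ} (he : classInner (fun m : M => χ m) θ = (e : ℂ)) (he0 : e ≠ 0) :
    ¬ p ∣ e := by
  classical
  obtain ⟨c, hc0, hc⟩ := IsIrrCharacter.exists_degree hχ
  obtain ⟨d, hd0, hd⟩ := IsIrrCharacter.exists_degree hθ
  have hne : classInner (fun m : M => χ m) θ ≠ 0 := by rw [he]; exact_mod_cast he0
  obtain ⟨hdc, hr⟩ := Cfsg.Agent.S0887.result M χ hχ θ hθ hne c d hc hd
  let I : Subgroup C :=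
    { carrier := {x | CliffordChar.conjFun M x θ = θ}
      one_mem' := CliffordChar.conjFun_one M θ
      mul_mem' := fun {x y} hx hy => by
        show CliffordChar.conjFun M (x * y) θ = θ
        rw [CliffordChar.conjFun_mul, show CliffordChar.conjFun M y θ = θ from hy,
          show CliffordChar.conjFun M x θ = θ from hx]
      inv_mem' := fun {x} hx => by
        show CliffordChar.conjFun M x⁻¹ θ = θ
        conv_lhs => rw [← (show CliffordChar.conjFun M x θ = θ from hx)]
        rw [← CliffordChar.conjFun_mul, inv_mul_cancel, CliffordChar.conjFun_one] }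
  have hw : classInner (CliffordChar.orbitSum M θ) θ = (Nat.card I : ℂ) := by
    rw [CliffordChar.classInner_orbitSum M hθ hθ, Nat.card_eq_fintype_card]
    congr 1
    rw [← Fintype.card_subtype]
    exact Fintype.card_congr (Equiv.refl _)
  have h1 := congrFun (CliffordChar.restrict_eq M hχ hθ hne) 1
  have hO1 : CliffordChar.orbitSum M θ 1 = (Nat.card C : ℂ) * θ 1 := by
    simp [CliffordChar.orbitSum, Finset.sum_apply, CliffordChar.conjFun, Nat.card_eq_fintype_card]
  rw [he, hw, Pi.smul_apply, hO1, smul_eq_mul, OneMemClass.coe_one, hc, hd] at h1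
  have hI : (Nat.card I : ℂ) ≠ 0 := Nat.cast_ne_zero.2 Nat.card_pos.ne'
  field_simp at h1
  have h2 : c * Nat.card I = e * Nat.card C * d := by
    have h3 : ((c * Nat.card I : ℕ) : ℂ) = ((e * Nat.card C * d : ℕ) : ℂ) := by
      push_cast; linear_combination h1
    exact_mod_cast h3
  obtain ⟨r, rfl⟩ := hdc
  rw [Nat.mul_div_cancel_left _ hd0] at hr
  have h4 : r * Nat.card I = e * Nat.card C :=
    Nat.eq_of_mul_eq_mul_left hd0 (by linarith)
  intro hpe
  have h5 : p ∣ r * Nat.card I := h4 ▸ dvd_mul_of_dvd_left hpe _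
  rcases hp.out.dvd_mul.1 h5 with h | h
  · exact hC ((h.trans hr).trans (Subgroup.index_dvd_card M))
  · exact hC (h.trans (Subgroup.card_subgroup_dvd_card I))

variable (N : Subgroup G) [N.Normal] [Fintype N] (hN : ∀ (s : P), ∀ h ∈ N, φ s h ∈ N)
  [Fintype (fixedSub (restrictAct φ N hN))] [Fintype (N.subgroupOf (fixedSub φ))]

/-- The correspondence respects lying over an invariant normal subgroup. -/
theorem classInner_ne_zero_of_corr (hP : IsPGroup p P) (hG : ¬ p ∣ Nat.card G)
    {θ : IrrCharacter N} (hθ : IsFixed (restrictAct φ N hN) (θ : N → ℂ))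
    {θ1 : IrrCharacter (fixedSub (restrictAct φ N hN))}
    (hθ1 : ¬ p ∣ mult (restrictAct φ N hN) (θ : N → ℂ) θ1)
    {χ : IrrCharacter G} (hχ : IsFixed φ (χ : G → ℂ)) {χ1 : IrrCharacter (fixedSub φ)}
    (hχ1 : ¬ p ∣ mult φ (χ : G → ℂ) χ1)
    (hover : classInner (fun m : N.subgroupOf (fixedSub φ) => (χ1 : fixedSub φ → ℂ) m)
      (fun m => (θ1 : fixedSub (restrictAct φ N hN) → ℂ) ((fixedSubEquiv φ N hN).symm m)) ≠ 0) :
    classInner (fun n : N => (χ : G → ℂ) n) (θ : N → ℂ) ≠ 0 := by
  classical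
  haveI := Fintype.ofFinite (IrrCharacter (fixedSub φ))
  haveI := Fintype.ofFinite (IrrCharacter N)
  have hNcard : ¬ p ∣ Nat.card N := fun h => hG (h.trans (Subgroup.card_subgroup_dvd_card N))
  have hθ1' : IsIrrCharacter (N.subgroupOf (fixedSub φ)) (fun m => (θ1 : fixedSub (restrictAct φ N hN) → ℂ) ((fixedSubEquiv φ N hN).symm m)) :=
    IsIrrCharacter.comp_equiv θ1.2 (fixedSubEquiv φ N hN).symm
  intro hzero
  -- first computation, through `fixedSub φ`
  obtain ⟨m, hm, hm'⟩ := IsCharacter.decompose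
    (IsCharacter.restrict (IsIrrCharacter.isCharacter χ.2) (fixedSub φ))
  choose b hb using fun β : IrrCharacter (fixedSub φ) => IsCharacter.classInner_nat
    (IsCharacter.restrict (IsIrrCharacter.isCharacter β.2) (N.subgroupOf (fixedSub φ))) (IsIrrCharacter.isCharacter hθ1')
  have hA : classInner (fun x : (N.subgroupOf (fixedSub φ)) => (χ : G → ℂ) ((x : fixedSub φ) : G))
      (fun m => (θ1 : fixedSub (restrictAct φ N hN) → ℂ) ((fixedSubEquiv φ N hN).symm m))
      = ((∑ β : IrrCharacter (fixedSub φ), m β * b β : ℕ) : ℂ) := by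
    have e : (fun x : (N.subgroupOf (fixedSub φ)) => (χ : G → ℂ) ((x : fixedSub φ) : G))
        = ∑ β : IrrCharacter (fixedSub φ), (m β : ℂ) • fun x : (N.subgroupOf (fixedSub φ)) => (β : fixedSub φ → ℂ) x := by
      funext x
      have := congrFun hm (x : fixedSub φ)
      rw [Finset.sum_apply] at this ⊢
      exact this
    rw [e, classInner_sum_left, Nat.cast_sum]
    exact Finset.sum_congr rfl fun β _ => by rw [classInner_smul_left, hb, Nat.cast_mul]
  have hmult : ∀ β : IrrCharacter (fixedSub φ), mult φ (χ : G → ℂ) β = m β := fun β =>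
    mult_eq_of_classInner φ (hm' β)
  have hbχ : ¬ p ∣ b χ1 := not_dvd_multiplicity (N.subgroupOf (fixedSub φ)) (not_dvd_card_fixed φ hG) χ1.2 hθ1' (hb χ1)
    (fun h => hover ((hb χ1).trans (by rw [h, Nat.cast_zero])))
  have hA' : ¬ p ∣ ∑ β : IrrCharacter (fixedSub φ), m β * b β := by
    rw [← Finset.add_sum_erase _ _ (Finset.mem_univ χ1)]
    intro hd
    have hrest : p ∣ ∑ β ∈ Finset.univ.erase χ1, m β * b β := by
      refine Finset.dvd_sum fun β hβ => dvd_mul_of_dvd_left ?_ _
      by_contra hd'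
      exact (Finset.ne_of_mem_erase hβ) (irr_unique φ hP hG hχ (by rwa [hmult]) hχ1)
    rcases hp.out.dvd_mul.1 ((Nat.dvd_add_left hrest).1 hd) with h | h
    · exact hχ1 ((hmult χ1).symm ▸ h)
    · exact hbχ h
  -- second computation, through `N`
  obtain ⟨a, ha, ha'⟩ := IsCharacter.decompose (IsCharacter.restrict (IsIrrCharacter.isCharacter χ.2) N)
  have hB : classInner (fun x : (N.subgroupOf (fixedSub φ)) => (χ : G → ℂ) ((x : fixedSub φ) : G))
      (fun m => (θ1 : fixedSub (restrictAct φ N hN) → ℂ) ((fixedSubEquiv φ N hN).symm m))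
      = ((∑ μ : IrrCharacter N, a μ * mult (restrictAct φ N hN) (μ : N → ℂ) θ1 : ℕ) : ℂ) := by
    rw [← classInner_comp_equiv (fixedSubEquiv φ N hN)]
    have e : (fun x : fixedSub (restrictAct φ N hN) => (χ : G → ℂ) (((fixedSubEquiv φ N hN x : (N.subgroupOf (fixedSub φ))) : fixedSub φ) : G))
        = ∑ μ : IrrCharacter N, (a μ : ℂ) • fun x : fixedSub (restrictAct φ N hN) => (μ : N → ℂ) x := by
      funext x
      have := congrFun ha (x : N)
      rw [Finset.sum_apply] at this ⊢
      exact this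
    rw [e, classInner_sum_left, Nat.cast_sum]
    refine Finset.sum_congr rfl fun μ _ => ?_
    rw [classInner_smul_left, Nat.cast_mul]
    congr 1
    simp only [MulEquiv.symm_apply_apply]
    exact mult_spec (restrictAct φ N hN) (IsIrrCharacter.isCharacter μ.2) (IsIrrCharacter.isCharacter θ1.2)
  have hAB : ∑ β : IrrCharacter (fixedSub φ), m β * b β
      = ∑ μ : IrrCharacter N, a μ * mult (restrictAct φ N hN) (μ : N → ℂ) θ1 := by
    exact_mod_cast hA.symm.trans hB
  apply hA'
  rw [hAB]
  have hθa : a θ = 0 := by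
    have := (ha' θ).symm.trans hzero
    exact_mod_cast this
  letI := charAction (restrictAct φ N hN)
  have hainv : ∀ (s : P) (μ : IrrCharacter N), a (s • μ) = a μ := by
    intro s μ
    have h1 : classInner (fun n : N => (χ : G → ℂ) n) ((s • μ : IrrCharacter N) : N → ℂ)
        = classInner (fun n : N => (χ : G → ℂ) n) (μ : N → ℂ) := by
      refine Eq.trans ?_ (classInner_comp_equiv ((restrictAct φ N hN) s⁻¹ : MulAut N) _ _)
      congr 1
      funext n
      exact (hχ s⁻¹ (n : G)).symm
    rw [ha', ha'] at h1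
    exact_mod_cast h1
  have hsum := cong_sum_fixed (p := p) hP
    (fun μ : IrrCharacter N => ((a μ * mult (restrictAct φ N hN) (μ : N → ℂ) θ1 : ℕ) : ℂ))
    (fun μ => isIntegral_natCast' _) (fun s μ => by
      have e : mult (restrictAct φ N hN) ((s • μ : IrrCharacter N) : N → ℂ) θ1 = mult (restrictAct φ N hN) (μ : N → ℂ) θ1 := by
        unfold mult
        congr 3
        funext c
        show (μ : N → ℂ) ((restrictAct φ N hN) s⁻¹ c) = (μ : N → ℂ) c
        rw [c.2 s⁻¹]
      rw [e, hainv])
  rw [← Nat.cast_sum, ← Nat.cast_sum, ← Int.cast_natCast, ← Int.cast_natCast (R := ℂ)] at hsum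
  have h3 := int_dvd_of_cong hp.out.ne_zero hsum
  refine Int.natCast_dvd_natCast.1 ((dvd_sub_left (Int.natCast_dvd_natCast.2 ?_)).1 h3)
  refine Finset.dvd_sum fun μ hμ => ?_
  by_cases hμθ : μ = θ
  · rw [hμθ, hθa, zero_mul]; exact dvd_zero p
  · refine dvd_mul_of_dvd_right ?_ _
    by_contra hd
    have hfix : IsFixed (restrictAct φ N hN) (μ : N → ℂ) := (isFixed_iff_smul (restrictAct φ N hN) μ).1 (Finset.mem_filter.1 hμ).2
    exact hμθ (Subtype.ext (fixed_unique (restrictAct φ N hN) hP hNcard μ.2 θ.2 hfix hθ θ1.2 hd hθ1))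

end Cfsg.Agent.GlauberChar

namespace Cfsg.Agent.GlauberChar

open Cfsg Cfsg.Agent.Char

universe u

/-- A `p`-subgroup normal in `S`, with everything the induction needs. -/
theorem exists_step {G : Type u} [Group G] [Fintype G] (S : Subgroup (MulAut G))
    [Group.IsSolvable S] (hS : S ≠ ⊥) (hcop : (Nat.card G).Coprime (Nat.card S)) :
    ∃ (p : ℕ) (T : Subgroup S), p.Prime ∧ T.Normal ∧ IsPGroup p T ∧ T ≠ ⊥ ∧ ¬ p ∣ Nat.card G ∧
      ∀ (s : S), ∀ c ∈ fixedSub (S.subtype.comp T.subtype),
        (s : MulAut G) c ∈ fixedSub (S.subtype.comp T.subtype) := by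
  haveI : Nontrivial S := (Subgroup.nontrivial_iff_ne_bot S).2 hS
  obtain ⟨p, hp, T, hTn, hT0, hTp⟩ := Solvable.exists_normal_pGroup_ne_bot S
  haveI : Fact p.Prime := ⟨hp⟩
  refine ⟨p, T, hp, hTn, hTp, hT0, fun hd => ?_, fun s c hc t => ?_⟩
  · obtain ⟨k, hk⟩ := IsPGroup.iff_card.1 hTp
    have hk0 : k ≠ 0 := fun h => hT0 (Subgroup.card_eq_one.1 (by rw [hk, h, pow_zero]))
    exact hp.ne_one (Nat.eq_one_of_dvd_coprimes hcop hd
      (((dvd_pow_self p hk0).trans (dvd_of_eq hk.symm)).trans (Subgroup.card_subgroup_dvd_card T)))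
  · have ht' : s⁻¹ * (t : S) * s ∈ T := by simpa using hTn.conj_mem _ t.2 s⁻¹
    have h1 : ((s⁻¹ * (t : S) * s : S) : MulAut G) c = c := hc ⟨_, ht'⟩
    show ((t : S) : MulAut G) ((s : MulAut G) c) = (s : MulAut G) c
    conv_rhs => rw [← h1]
    rw [← MulAut.mul_apply, ← MulAut.mul_apply]
    exact congrArg (fun f : MulAut G => f c) (by push_cast; group)

theorem card_range_lt {G : Type u} [Group G] [Finite G] (S : Subgroup (MulAut G)) (T : Subgroup S)
    (hT0 : T ≠ ⊥) {H : Type u} [Group H] [Finite H] (ρ : S →* MulAut H) (hker : T ≤ ρ.ker) :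
    Nat.card ρ.range < Nat.card S := by
  have h1 := Subgroup.index_mul_card ρ.ker
  rw [Subgroup.index_ker] at h1
  have h2 : 1 < Nat.card ρ.ker :=
    lt_of_lt_of_le ((Subgroup.one_lt_card_iff_ne_bot T).2 hT0) (Subgroup.card_le_of_le hker)
  have h3 : 0 < Nat.card ρ.range := Nat.card_pos
  nlinarith

theorem card_fixed_eq_aux : ∀ (d : ℕ) (G : Type u) [Group G] [Fintype G] (S : Subgroup (MulAut G)),
    Group.IsSolvable S → (Nat.card G).Coprime (Nat.card S) → Nat.card S ≤ d →
    Nat.card {χ : IrrCharacter G // IsFixed S.subtype (χ : G → ℂ)} =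
      Nat.card {K : ConjClasses G // IsFixedClass S.subtype K} := by
  intro d
  induction d with
  | zero => intro G _ _ S _ _ hd; have := Nat.card_pos (α := S); omega
  | succ d ih =>
    intro G _ _ S hsol hcop hd
    classical
    haveI := hsol
    by_cases hS : S = ⊥
    · subst hS
      have h1 : ∀ s : (⊥ : Subgroup (MulAut G)), (s : MulAut G) = 1 := fun s => Subgroup.mem_bot.1 s.2
      have hA : ∀ χ : IrrCharacter G, IsFixed (⊥ : Subgroup (MulAut G)).subtype (χ : G → ℂ) :=
        fun χ s g => by rw [Subgroup.coe_subtype, h1 s]; rfl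
      have hB : ∀ K : ConjClasses G, IsFixedClass (⊥ : Subgroup (MulAut G)).subtype K :=
        fun K s g hg => by rw [Subgroup.coe_subtype, h1 s]; exact hg
      rw [Nat.card_congr (Equiv.subtypeUnivEquiv hA), Nat.card_congr (Equiv.subtypeUnivEquiv hB)]
      exact card_irr_eq_card_conjClasses
    obtain ⟨p, T, hp, hTn, hTp, hT0, hpG, hC⟩ := exists_step S hS hcop
    haveI : Fact p.Prime := ⟨hp⟩
    obtain ⟨φ, hφ⟩ : ∃ φ : T →* MulAut G, φ = S.subtype.comp T.subtype := ⟨_, rfl⟩
    rw [← hφ] at hC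
    have hφapp : ∀ (t : T) (g : G), φ t g = ((t : S) : MulAut G) g := fun t g => by rw [hφ]; rfl
    haveI : Fintype (fixedSub φ) := Fintype.ofFinite _
    let ρ : S →* MulAut (fixedSub φ) := restrictAct S.subtype (fixedSub φ) hC
    have hker : T ≤ ρ.ker := fun t ht => MulEquiv.ext fun c => Subtype.ext (by
      have := c.2 ⟨t, ht⟩
      rw [hφapp] at this
      exact this)
    haveI : Group.IsSolvable ρ.range :=
      solvable_of_surjective ρ.rangeRestrict_surjective
    have hcop' : (Nat.card (fixedSub φ)).Coprime (Nat.card ρ.range) :=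
      (hcop.coprime_dvd_left (Subgroup.card_subgroup_dvd_card _)).coprime_dvd_right
        (Subgroup.card_range_dvd ρ)
    have hlt := card_range_lt S T hT0 ρ hker
    have hrec := ih (fixedSub φ) ρ.range inferInstance hcop' (by omega)
    have hmultα : ∀ (s : S) (χ : G → ℂ) (β : fixedSub φ → ℂ),
        mult φ (fun g => χ ((s : MulAut G) g)) (fun c => β (ρ s c)) = mult φ χ β := by
      intro s χ β
      unfold mult
      congr 2
      exact classInner_comp_equiv (ρ s) (fun c : fixedSub φ => χ c) β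
    have hTfix : ∀ χ : G → ℂ, IsFixed S.subtype χ → IsFixed φ χ := fun χ h t g => by
      rw [hφ]; exact h (t : S) g
    have hfixiff : ∀ (χ : IrrCharacter G), IsFixed φ (χ : G → ℂ) → ∀ β : IrrCharacter (fixedSub φ),
        ¬ p ∣ mult φ (χ : G → ℂ) β →
        (IsFixed S.subtype (χ : G → ℂ) ↔ IsFixed ρ.range.subtype (β : fixedSub φ → ℂ)) := by
      intro χ hχ β hβ
      constructor
      · intro h r c
        obtain ⟨s, hs⟩ := r.2
        have hβ' : IsIrrCharacter (fixedSub φ) (fun c => (β : fixedSub φ → ℂ) (ρ s c)) :=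
          IsIrrCharacter.comp_equiv β.2 (ρ s)
        have h1 := hmultα s (χ : G → ℂ) β
        rw [show (fun g => (χ : G → ℂ) ((s : MulAut G) g)) = (χ : G → ℂ) from funext fun g => h s g] at h1
        have h2 := irr_unique φ hTp hpG hχ (β := ⟨_, hβ'⟩) (β' := β)
          (by rw [show mult φ (χ : G → ℂ) _ = _ from h1]; exact hβ) hβ
        show (β : fixedSub φ → ℂ) ((r : MulAut (fixedSub φ)) c) = _
        rw [← hs]
        exact congrFun (congrArg Subtype.val h2) c
      · intro h s g
        have hχ' : IsIrrCharacter G (fun g => (χ : G → ℂ) ((s : MulAut G) g)) :=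
          IsIrrCharacter.comp_equiv χ.2 (s : MulAut G)
        have hfix' : IsFixed φ (fun g => (χ : G → ℂ) ((s : MulAut G) g)) := fun t g => by
          have ht' : s * (t : S) * s⁻¹ ∈ T := hTn.conj_mem _ t.2 s
          have h3 := hχ ⟨_, ht'⟩ ((s : MulAut G) g)
          rw [hφapp] at h3
          refine Eq.trans (congrArg (χ : G → ℂ) ?_) h3
          rw [hφapp, ← MulAut.mul_apply, ← MulAut.mul_apply]
          exact congrArg (fun f : MulAut G => f g) (by push_cast; group)
        have h1 := hmultα s (χ : G → ℂ) β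
        rw [show (fun c => (β : fixedSub φ → ℂ) (ρ s c)) = (β : fixedSub φ → ℂ) from
          funext fun c => h ⟨ρ s, s, rfl⟩ c] at h1
        exact congrFun (fixed_unique φ hTp hpG hχ' χ.2 hfix' hχ β.2 (by rw [h1]; exact hβ) hβ) g
    let E := Equiv.ofBijective _ (toFixedIrr_bijective φ hTp hpG)
    have hL : Nat.card {χ : IrrCharacter G // IsFixed S.subtype (χ : G → ℂ)}
        = Nat.card {β : IrrCharacter (fixedSub φ) // IsFixed ρ.range.subtype (β : fixedSub φ → ℂ)} :=
      Nat.card_congr (((Equiv.subtypeSubtypeEquivSubtype (fun {χ} h => hTfix _ h)).symm).trans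
        (E.subtypeEquiv fun χ => hfixiff χ.1 χ.2 _ (exists_irr_of_fixed φ hpG χ.1).choose_spec))
    let F := Equiv.ofBijective _ (classMap_bijective φ hTp hpG)
    have hKT : ∀ K : ConjClasses G, IsFixedClass S.subtype K → IsFixedClass φ K := fun K h t g hg => by
      rw [hφ]; exact h (t : S) g hg
    have hR : Nat.card {K : ConjClasses G // IsFixedClass S.subtype K}
        = Nat.card {K : ConjClasses (fixedSub φ) // IsFixedClass ρ.range.subtype K} := by
      refine Nat.card_congr (((Equiv.subtypeSubtypeEquivSubtype (fun {K} h => hKT K h)).symm).trans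
        (F.subtypeEquiv fun K => ?_).symm)
      obtain ⟨c, rfl⟩ := ConjClasses.mk_surjective K
      show IsFixedClass ρ.range.subtype (ConjClasses.mk c) ↔
        IsFixedClass S.subtype (ConjClasses.mk ((c : fixedSub φ) : G))
      constructor
      · intro h s g hg
        have h1 : ConjClasses.mk (ρ s c) = ConjClasses.mk c := h ⟨ρ s, s, rfl⟩ c rfl
        rw [← hg, ConjClasses.mk_eq_mk_iff_isConj]
        have h2 : IsConj g (c : G) := ConjClasses.mk_eq_mk_iff_isConj.1 hg
        refine ((MulEquiv.toMonoidHom (s : MulAut G)).map_isConj h2).trans ?_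
        exact ((fixedSub φ).subtype.map_isConj (ConjClasses.mk_eq_mk_iff_isConj.1 h1)).trans h2.symm
      · intro h r g hg
        obtain ⟨s, hs⟩ := r.2
        have h1 : ConjClasses.mk ((s : MulAut G) (g : G)) = ConjClasses.mk (c : G) := by
          refine h s (g : G) (ConjClasses.mk_eq_mk_iff_isConj.2 ?_)
          exact (fixedSub φ).subtype.map_isConj (ConjClasses.mk_eq_mk_iff_isConj.1 hg)
        rw [ConjClasses.mk_eq_mk_iff_isConj]
        show IsConj ((r : MulAut (fixedSub φ)) g) c
        rw [← hs]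
        obtain ⟨z, hz, hzc⟩ := fused_in_fixed φ hTp hpG (hC s g g.2) c.2
          (ConjClasses.mk_eq_mk_iff_isConj.1 h1)
        exact isConj_iff.2 ⟨⟨z, hz⟩, Subtype.ext hzc⟩
    rw [hL, hR]
    exact hrec

theorem exists_fixed_over_aux : ∀ (d : ℕ) (G : Type u) [Group G] [Fintype G] (S : Subgroup (MulAut G))
    (N : Subgroup G) [N.Normal] [Fintype N],
    Group.IsSolvable S → (Nat.card G).Coprime (Nat.card S) → Nat.card S ≤ d →
    ∀ (hN : ∀ (s : S), ∀ n ∈ N, (s : MulAut G) n ∈ N) (θ : IrrCharacter N),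
      IsFixed (restrictAct S.subtype N hN) (θ : N → ℂ) →
      ∃ χ : IrrCharacter G, classInner (fun n : N => (χ : G → ℂ) n) (θ : N → ℂ) ≠ 0 ∧
        IsFixed S.subtype (χ : G → ℂ) := by
  intro d
  induction d with
  | zero => intro G _ _ S N _ _ _ _ hd; have := Nat.card_pos (α := S); omega
  | succ d ih =>
    intro G _ _ S N _ _ hsol hcop hd hN θ hθ
    classical
    haveI := hsol
    haveI := Fintype.ofFinite (IrrCharacter G)
    by_cases hS : S = ⊥
    · subst hS
      obtain ⟨χ, hχ⟩ : ∃ χ : IrrCharacter G,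
          classInner (fun n : N => (χ : G → ℂ) n) (θ : N → ℂ) ≠ 0 := by
        by_contra hno
        push Not at hno
        have hz : indFun N (θ : N → ℂ) = 0 :=
          eq_zero_of_forall_classInner_irr (indFun_isClassFunction _ _) fun χ => by
            rw [frobenius_reciprocity _ _ (IsIrrCharacter.isClassFunction χ.2),
              ← classInner_conj_symm, hno χ, map_zero]
        have h1 := congrFun hz 1
        rw [indFun_one_apply, Pi.zero_apply, mul_eq_zero] at h1
        rcases h1 with h1 | h1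
        · exact Subgroup.index_ne_zero_of_finite (by exact_mod_cast h1)
        · exact IsIrrCharacter.apply_one_ne_zero θ.2 h1
      exact ⟨χ, hχ, fun s g => by rw [Subgroup.coe_subtype, Subgroup.mem_bot.1 s.2]; rfl⟩
    obtain ⟨p, T, hp, hTn, hTp, hT0, hpG, hC⟩ := exists_step S hS hcop
    haveI : Fact p.Prime := ⟨hp⟩
    obtain ⟨φ, hφ⟩ : ∃ φ : T →* MulAut G, φ = S.subtype.comp T.subtype := ⟨_, rfl⟩
    rw [← hφ] at hC
    have hφapp : ∀ (t : T) (g : G), φ t g = ((t : S) : MulAut G) g := fun t g => by rw [hφ]; rfl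
    haveI : Fintype (fixedSub φ) := Fintype.ofFinite _
    let ρ : S →* MulAut (fixedSub φ) := restrictAct S.subtype (fixedSub φ) hC
    have hker : T ≤ ρ.ker := fun t ht => MulEquiv.ext fun c => Subtype.ext (by
      have := c.2 ⟨t, ht⟩
      rw [hφapp] at this
      exact this)
    haveI : Group.IsSolvable ρ.range :=
      solvable_of_surjective ρ.rangeRestrict_surjective
    have hcop' : (Nat.card (fixedSub φ)).Coprime (Nat.card ρ.range) :=
      (hcop.coprime_dvd_left (Subgroup.card_subgroup_dvd_card _)).coprime_dvd_right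
        (Subgroup.card_range_dvd ρ)
    have hlt := card_range_lt S T hT0 ρ hker
    have hNφ : ∀ (t : T), ∀ n ∈ N, φ t n ∈ N := fun t n hn => by rw [hφapp]; exact hN t n hn
    haveI : Fintype (fixedSub (restrictAct φ N hNφ)) := Fintype.ofFinite _
    have hθT : IsFixed (restrictAct φ N hNφ) (θ : N → ℂ) := fun t n => by
      have h1 := hθ (t : S) n
      refine Eq.trans ?_ h1
      exact congrArg (θ : N → ℂ) (Subtype.ext (hφapp t (n : G)))
    have hpN : ¬ p ∣ Nat.card N := fun h => hpG (h.trans (Subgroup.card_subgroup_dvd_card N))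
    obtain ⟨θ1, hθ1⟩ := exists_irr_of_fixed (restrictAct φ N hNφ) hpN θ
    let e := fixedSubEquiv φ N hNφ
    let M := N.subgroupOf (fixedSub φ)
    have hθ1' : IsIrrCharacter M (fun m => (θ1 : _ → ℂ) (e.symm m)) :=
      IsIrrCharacter.comp_equiv θ1.2 e.symm
    have hMinv : ∀ (r : ρ.range), ∀ m ∈ M, (r : MulAut (fixedSub φ)) m ∈ M := by
      rintro ⟨_, s, rfl⟩ m hm
      show ((s : MulAut G) (m : G)) ∈ N
      exact hN s _ hm
    haveI : Fintype M := Fintype.ofFinite _
    have hθ1fix : IsFixed (restrictAct ρ.range.subtype M hMinv) (fun m => (θ1 : _ → ℂ) (e.symm m)) := by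
      rintro ⟨_, s, rfl⟩ m
      -- the automorphism of the fixed points of `N` induced by `s`
      have hs1 : ∀ x ∈ fixedSub (restrictAct φ N hNφ),
          restrictAct S.subtype N hN s x ∈ fixedSub (restrictAct φ N hNφ) := fun x hx t =>
        Subtype.ext (hC s (x : G) (fun u => congrArg Subtype.val (hx u)) t)
      have hs2 : ∀ x ∈ fixedSub (restrictAct φ N hNφ),
          restrictAct S.subtype N hN s⁻¹ x ∈ fixedSub (restrictAct φ N hNφ) := fun x hx t =>
        Subtype.ext (hC s⁻¹ (x : G) (fun u => congrArg Subtype.val (hx u)) t)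
      let α : fixedSub (restrictAct φ N hNφ) ≃* fixedSub (restrictAct φ N hNφ) :=
        { toFun := fun x => ⟨_, hs1 x x.2⟩
          invFun := fun x => ⟨_, hs2 x x.2⟩
          left_inv := fun x => Subtype.ext (by
            show restrictAct S.subtype N hN s⁻¹ (restrictAct S.subtype N hN s x) = x
            rw [← MulAut.mul_apply, ← map_mul, inv_mul_cancel, map_one]; rfl)
          right_inv := fun x => Subtype.ext (by
            show restrictAct S.subtype N hN s (restrictAct S.subtype N hN s⁻¹ x) = x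
            rw [← MulAut.mul_apply, ← map_mul, mul_inv_cancel, map_one]; rfl)
          map_mul' := fun x y => Subtype.ext (map_mul (restrictAct S.subtype N hN s) (x : N) y) }
      have hm : mult (restrictAct φ N hNφ) (θ : N → ℂ) (fun x => (θ1 : _ → ℂ) (α x))
          = mult (restrictAct φ N hNφ) (θ : N → ℂ) θ1 := by
        unfold mult
        congr 2
        refine Eq.trans ?_ (classInner_comp_equiv α
          (fun x : fixedSub (restrictAct φ N hNφ) => (θ : N → ℂ) x) (θ1 : _ → ℂ))
        congr 1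
        funext x
        exact (hθ s (x : N)).symm
      have h2 := irr_unique (restrictAct φ N hNφ) hTp hpN hθT
        (β := ⟨fun x => (θ1 : _ → ℂ) (α x), IsIrrCharacter.comp_equiv θ1.2 α⟩) (β' := θ1)
        (by rw [show mult _ _ _ = _ from hm]; exact hθ1) hθ1
      exact congrFun (congrArg Subtype.val h2) (e.symm m)
    obtain ⟨χ1, hover, hχ1fix⟩ := ih (fixedSub φ) ρ.range M inferInstance hcop' (by omega) hMinv
      ⟨_, hθ1'⟩ hθ1fix
    obtain ⟨χ, hχfix, hχ1⟩ := exists_fixed_of_irr φ hTp hpG χ1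
    refine ⟨χ, classInner_ne_zero_of_corr φ N hNφ hTp hpG hθT hθ1 hχfix hχ1 hover, fun s g => ?_⟩
    have hχ' : IsIrrCharacter G (fun g => (χ : G → ℂ) ((s : MulAut G) g)) :=
      IsIrrCharacter.comp_equiv χ.2 (s : MulAut G)
    have hfix' : IsFixed φ (fun g => (χ : G → ℂ) ((s : MulAut G) g)) := fun t g => by
      have ht' : s * (t : S) * s⁻¹ ∈ T := hTn.conj_mem _ t.2 s
      have h3 := hχfix ⟨_, ht'⟩ ((s : MulAut G) g)
      rw [hφapp] at h3
      refine Eq.trans (congrArg (χ : G → ℂ) ?_) h3
      rw [hφapp, ← MulAut.mul_apply, ← MulAut.mul_apply]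
      exact congrArg (fun f : MulAut G => f g) (by push_cast; group)
    have h1 : mult φ (fun g => (χ : G → ℂ) ((s : MulAut G) g)) (χ1 : _ → ℂ) = mult φ (χ : G → ℂ) χ1 := by
      unfold mult
      congr 2
      refine Eq.trans ?_ (classInner_comp_equiv (ρ s) (fun c : fixedSub φ => (χ : G → ℂ) c) (χ1 : _ → ℂ))
      congr 1
      funext c
      exact (hχ1fix ⟨ρ s, s, rfl⟩ c).symm
    exact congrFun (fixed_unique φ hTp hpG hχ' χ.2 hfix' hχfix χ1.2 (by rw [h1]; exact hχ1) hχ1) g

end Cfsg.Agent.GlauberChar
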