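/-
Coprime layers `N ≤ G ≤ Γ` (namespace `Cfsg.Agent.GlauberChar`).

* `exists_minimal_supplement_coprime` : a supplement whose order is prime to everything prime to the index
* `exists_hall_of_central` : a normal Hall subgroup complementing a central subgroup
* `exists_invariant_over_of_solvable` : invariant character over an invariant one, `Γ ⧸ G` solvable
-/
import Cfsg.Agent.S4449
import Cfsg.Agent.S4112
import Cfsg.Agent.Lib.CharApp.CoprimeFixed
import Cfsg.Agent.Lib.CharExtend.Coprime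

set_option autoImplicit false

namespace Cfsg.Agent.GlauberChar

open Cfsg Cfsg.Agent.Char

universe u

/-- A supplement to a normal subgroup, of order coprime to every number coprime to the index. -/
theorem exists_minimal_supplement_coprime {Γ : Type*} [Group Γ] [Finite Γ] (G : Subgroup Γ) [G.Normal] :
    ∃ S : Subgroup Γ, S ⊔ G = ⊤ ∧ ∀ m : ℕ, G.index.Coprime m → (Nat.card S).Coprime m := by
  obtain ⟨S, -, hmin⟩ := Finite.exists_le_minimal (α := Subgroup Γ) (p := fun H => H ⊔ G = ⊤) (a := ⊤)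
    (top_sup_eq G)
  refine ⟨S, hmin.1, fun m hm => Nat.coprime_of_dvd fun q hq h1 h2 => ?_⟩
  have h3 := S4112.dvd_index_of_minimal_supplement G S hmin.1
    (fun K hK hK' => le_antisymm hK (hmin.2 hK' hK)) q hq h1
  exact hq.not_dvd_one (hm ▸ Nat.dvd_gcd h3 h2)

/-- `Z ≤ B` normal in `Q`, `Z` central: if the index of `B` is prime to `|B : Z|`, then a normal
subgroup `H ≤ B` of order prime to its index supplements `Z` in `B`. -/
theorem exists_hall_of_central {Q : Type*} [Group Q] [Finite Q] (B Z : Subgroup Q) [hB : B.Normal]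
    (hZB : Z ≤ B) (hZc : Z ≤ Subgroup.center Q) (hcop : B.index.Coprime (Z.relIndex B)) :
    ∃ H : Subgroup Q, H.Normal ∧ H ≤ B ∧ (Nat.card H).Coprime H.index ∧ B ≤ H ⊔ Z ∧
      (Nat.card H).Coprime B.index := by
  classical
  obtain ⟨K, hK⟩ : ∃ K, Nat.card Z = K := ⟨_, rfl⟩
  have hK0 : 0 < K := hK ▸ Nat.card_pos
  obtain ⟨a, ha⟩ : ∃ a, Nat.gcd K (B.index ^ K) = a := ⟨_, rfl⟩
  have haK : a ∣ K := ha ▸ Nat.gcd_dvd_left _ _
  have ha0 : 0 < a := ha ▸ Nat.gcd_pos_of_pos_left _ hK0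
  obtain ⟨b, hb⟩ := haK
  have hidx : B.index ≠ 0 := Subgroup.index_ne_zero_of_finite
  have haprime : ∀ q : ℕ, q.Prime → q ∣ a → q ∣ B.index := fun q hq hqa =>
    hq.dvd_of_dvd_pow (hqa.trans (ha ▸ Nat.gcd_dvd_right _ _))
  have hbcop : Nat.Coprime B.index b := by
    refine Nat.coprime_of_dvd fun q hq hqi hqb => ?_
    obtain ⟨c, rfl⟩ := hqb
    -- the `q`-part of `K` divides `a`
    obtain ⟨e, r, hr, her⟩ := Nat.exists_eq_pow_mul_and_not_dvd hK0.ne' q hq.ne_one
    have heK : e ≤ K := by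
      refine le_trans (le_of_lt (Nat.lt_pow_self hq.one_lt)) (Nat.le_of_dvd hK0 ⟨r, her⟩)
    have hqe : q ^ e ∣ a := by
      rw [← ha]
      exact Nat.dvd_gcd ⟨r, her⟩ ((pow_dvd_pow _ heK).trans (pow_dvd_pow_of_dvd hqi K))
    obtain ⟨a', rfl⟩ := hqe
    refine hr ⟨a' * c, ?_⟩
    have hqe0 : 0 < q ^ e := pow_pos hq.pos e
    apply Nat.eq_of_mul_eq_mul_left hqe0
    rw [← her, hb]; ring
  obtain ⟨d, hd⟩ : ∃ d, Z.relIndex B = d := ⟨_, rfl⟩
  rw [hd] at hcop
  let Z0 : Subgroup B := Z.subgroupOf B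
  have hZ0c : Z0 ≤ Subgroup.center B := by
    intro z hz
    rw [Subgroup.mem_center_iff]
    intro g
    exact Subtype.ext (Subgroup.mem_center_iff.mp (hZc hz) g)
  have hZ0i : Z0.index = d := hd
  haveI : Z0.Normal := ⟨fun z hz g => by
    rw [show g * z * g⁻¹ = z by rw [Subgroup.mem_center_iff.mp (hZ0c hz) g, mul_inv_cancel_right]]
    exact hz⟩
  have hpowZ : ∀ g : B, g ^ d ∈ Z0 := fun g => hZ0i ▸ Subgroup.pow_index_mem Z0 g
  obtain ⟨e, he⟩ : (Subgroup.center B).index ∣ d := hZ0i ▸ Subgroup.index_dvd_of_le hZ0c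
  have hmul : ∀ x y : B, (x * y) ^ d = x ^ d * y ^ d := by
    intro x y
    have h1 : ∀ w : B, w ^ d = ((MonoidHom.transferCenterPow B w : Subgroup.center B) : B) ^ e := by
      intro w
      rw [MonoidHom.transferCenterPow_apply, ← pow_mul, ← he]
    rw [h1, h1, h1, map_mul, Subgroup.coe_mul]
    exact Commute.mul_pow (Subgroup.mem_center_iff.mp (MonoidHom.transferCenterPow B y).2 _) e
  have hcomm : ∀ x y : B, Commute (x ^ d) (y ^ d) := fun x y =>
    (Subgroup.mem_center_iff.mp (hZ0c (hpowZ y)) (x ^ d))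
  let φ : B →* B :=
    { toFun := fun g => (g ^ d) ^ b
      map_one' := by simp
      map_mul' := fun x y => by rw [hmul, (hcomm x y).mul_pow] }
  have hφpow : ∀ g, φ g = g ^ (d * b) := fun g => (pow_mul g d b).symm
  obtain ⟨H, hH⟩ : ∃ H : Subgroup Q, H = φ.ker.map B.subtype := ⟨_, rfl⟩
  have hmem : ∀ x : Q, x ∈ H ↔ x ∈ B ∧ x ^ (d * b) = 1 := by
    intro x
    rw [hH]
    constructor
    · rintro ⟨g, hg, rfl⟩
      refine ⟨g.2, ?_⟩
      rw [SetLike.mem_coe, MonoidHom.mem_ker, hφpow] at hg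
      exact congrArg (fun w : B => (w : Q)) hg
    · rintro ⟨hx, hx1⟩
      refine ⟨⟨x, hx⟩, ?_, rfl⟩
      rw [SetLike.mem_coe, MonoidHom.mem_ker, hφpow]
      exact Subtype.ext hx1
  have hHB : H ≤ B := fun x hx => ((hmem x).mp hx).1
  haveI hHn : H.Normal := ⟨fun x hx g => by
    rw [hmem] at hx ⊢
    exact ⟨hB.conj_mem x hx.1 g, by rw [conj_pow, hx.2, mul_one, mul_inv_cancel]⟩⟩
  have hdb : Nat.Coprime B.index (d * b) := Nat.Coprime.mul_right hcop hbcop
  -- primes of `|H|`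
  have hHprime : ∀ q : ℕ, q.Prime → q ∣ Nat.card H → ¬ q ∣ B.index := by
    intro q hq hqH hqi
    haveI := Fact.mk hq
    obtain ⟨x, hx⟩ := exists_prime_orderOf_dvd_card' q hqH
    have h1 : (x : Q) ^ (d * b) = 1 := ((hmem x).mp x.2).2
    have h2 : q ∣ d * b := by
      rw [← hx, ← Subgroup.orderOf_coe]
      exact orderOf_dvd_of_pow_eq_one h1
    exact hq.not_dvd_one (hdb ▸ Nat.dvd_gcd hqi h2)
  -- primes of `|B : H|`
  have hrange : ∀ q : ℕ, q.Prime → q ∣ H.relIndex B → q ∣ B.index := by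
    intro q hq hqd
    haveI := Fact.mk hq
    have h0 : H.relIndex B = Nat.card φ.range := by
      rw [← Subgroup.index_ker, hH]
      show (Subgroup.subgroupOf (φ.ker.map B.subtype) B).index = φ.ker.index
      rw [← Subgroup.comap_subtype, Subgroup.comap_map_eq_self_of_injective B.subtype_injective]
    obtain ⟨⟨_, g, rfl⟩, hy⟩ := exists_prime_orderOf_dvd_card' q (h0 ▸ hqd)
    refine haprime q hq ?_
    rw [← hy, ← Subgroup.orderOf_coe]
    refine orderOf_dvd_of_pow_eq_one ?_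
    show ((g ^ d) ^ b) ^ a = 1
    rw [← pow_mul, mul_comm b a, ← hb, ← hK]
    have hz : (⟨((g ^ d : B) : Q), hpowZ g⟩ : Z) ^ Nat.card Z = 1 := pow_card_eq_one'
    exact Subtype.ext (congrArg (fun w : Z => (w : Q)) hz)
  have hindex : H.index = H.relIndex B * B.index := (Subgroup.relIndex_mul_index hHB).symm
  refine ⟨H, hHn, hHB, Nat.coprime_of_dvd fun q hq h1 h2 => ?_, ?_,
    Nat.coprime_of_dvd fun q hq h1 h2 => hHprime q hq h1 h2⟩
  · rw [hindex] at h2
    exact hHprime q hq h1 ((hq.dvd_mul.mp h2).elim (hrange q hq) id)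
  · rw [← Subgroup.relIndex_eq_one]
    by_contra hne
    obtain ⟨q, hq, hqd⟩ := Nat.exists_prime_and_dvd hne
    have h1 : q ∣ H.relIndex B := hqd.trans (Subgroup.relIndex_dvd_of_le_left B le_sup_left)
    have h2 : q ∣ d := hd ▸ hqd.trans (Subgroup.relIndex_dvd_of_le_left B le_sup_right)
    exact hq.not_dvd_one (hcop ▸ Nat.dvd_gcd (hrange q hq h1) h2)

variable {Γ : Type u} [Group Γ] [Fintype Γ]

set_option maxHeartbeats 1000000 in
/-- Invariant character over an invariant one when `Γ ⧸ G` is solvable and the layers are coprime. -/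
theorem exists_invariant_over_of_solvable (G N : Subgroup Γ) [hG : G.Normal] [hN : N.Normal]
    [Fintype G] [Fintype N] (hNG : N ≤ G) (hcop : (G.index).Coprime (N.relIndex G))
    (hsolv : Group.IsSolvable (Γ ⧸ G)) (θ : IrrCharacter N)
    (hinv : ∀ (x : Γ) (n : N), (θ : N → ℂ) ⟨x * n * x⁻¹, hN.conj_mem n n.2 x⟩ = (θ : N → ℂ) n) :
    ∃ χ : IrrCharacter G, classInner (fun n : N => (χ : G → ℂ) ⟨n, hNG n.2⟩) (θ : N → ℂ) ≠ 0 ∧
      ∀ (x : Γ) (g : G), (χ : G → ℂ) ⟨x * g * x⁻¹, hG.conj_mem g g.2 x⟩ = (χ : G → ℂ) g := by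
  classical
  obtain ⟨θ, n, ρ, hρi, rfl⟩ := θ
  haveI := hρi
  have hn : 0 < n := by
    have := CharApp.finrank_pos_of_irr ρ
    rwa [Module.finrank_fin_fun] at this
  haveI : NeZero n := ⟨hn.ne'⟩
  obtain ⟨m, hm⟩ : ∃ m, Nat.card N = m := ⟨_, rfl⟩
  have hm0 : 0 < m := hm ▸ Nat.card_pos
  obtain ⟨ρu, hρu⟩ : ∃ f, f = ρ.toHomUnits := ⟨_, rfl⟩
  -- the central extension
  let E : Subgroup (Γ × CharExtend.EU n) :=
    { carrier := {x | CharExtend.Intertwines ρu x.1 x.2 ∧ CharExtend.coprimeDet n x.2 ^ m = 1}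
      one_mem' := ⟨CharExtend.intertwines_one _, by simp⟩
      mul_mem' := fun {x y} hx hy => ⟨hx.1.mul hy.1, by
        rw [Prod.snd_mul, map_mul, mul_pow, hx.2, hy.2, one_mul]⟩
      inv_mem' := fun {x} hx => ⟨hx.1.inv, by rw [Prod.snd_inv, map_inv, inv_pow, hx.2, inv_one]⟩ }
  have hlift : ∀ g : Γ, ∃ T : CharExtend.EU n,
      CharExtend.Intertwines ρu g T ∧ CharExtend.coprimeDet n T = 1 := by
    intro g
    obtain ⟨T, hT⟩ := CharExtend.exists_intertwines ρ hinv g
    rw [← hρu] at hT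
    obtain ⟨c, hc⟩ := IsAlgClosed.exists_pow_nat_eq (((CharExtend.coprimeDet n T)⁻¹ : ℂˣ) : ℂ) hn
    have hc0 : c ≠ 0 := fun h => by
      rw [h, zero_pow hn.ne'] at hc
      exact Units.ne_zero _ hc.symm
    refine ⟨CharExtend.sc n (Units.mk0 c hc0) * T, hT.sc_mul _, ?_⟩
    rw [map_mul, CharExtend.coprimeDet_sc, mul_eq_one_iff_eq_inv]
    exact Units.ext (by rw [Units.val_pow_eq_pow_val, Units.val_mk0, hc])
  choose T hT hTdet using hlift
  have hscal : ∀ x : E, ∃ c : rootsOfUnity (n * m) ℂ, x.1.2 = CharExtend.sc n (c : ℂˣ) * T x.1.1 := by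
    intro x
    have hx := x.2.1
    have hT' := hT x.1.1
    rw [hρu] at hx hT'
    obtain ⟨c, hc⟩ := CharExtend.intertwines_unique ρ hx hT'
    refine ⟨⟨c, ?_⟩, hc⟩
    rw [mem_rootsOfUnity, pow_mul, ← CharExtend.coprimeDet_sc (n := n) c]
    have := x.2.2
    rwa [hc, map_mul, hTdet, mul_one] at this
  choose cf hcf using hscal
  haveI : NeZero (n * m) := ⟨mul_ne_zero hn.ne' hm0.ne'⟩
  haveI : Finite E := Finite.of_injective (fun x : E => (x.1.1, cf x)) fun x y h => by
    obtain ⟨h1, h2⟩ := Prod.mk.inj h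
    exact Subtype.ext (Prod.ext h1 (by rw [hcf x, hcf y, h2, h1]))
  let fst : E →* Γ := (MonoidHom.fst Γ (CharExtend.EU n)).comp E.subtype
  let snd : Representation ℂ E (Fin n → ℂ) :=
    (Units.coeHom _).comp ((MonoidHom.snd Γ (CharExtend.EU n)).comp E.subtype)
  have hfst : Function.Surjective fst := fun g =>
    ⟨⟨(g, T g), hT g, by rw [hTdet, one_pow]⟩, rfl⟩
  let j : N →* E :=
    { toFun := fun x => ⟨((x : Γ), ρu x), CharExtend.intertwines_apply ρu x, by
        rw [← map_pow, ← map_pow, ← hm, pow_card_eq_one', map_one, map_one]⟩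
      map_one' := Subtype.ext (Prod.ext rfl (map_one ρu))
      map_mul' := fun x y => Subtype.ext (Prod.ext rfl (map_mul ρu x y)) }
  have hjinj : Function.Injective j := fun x y h => Subtype.ext (congrArg fst h)
  haveI hjn : j.range.Normal := ⟨by
    rintro _ ⟨x, rfl⟩ e
    refine ⟨⟨e.1.1 * x * (e.1.1)⁻¹, hN.conj_mem x x.2 _⟩, Subtype.ext (Prod.ext rfl ?_)⟩
    show ρu _ = e.1.2 * ρu x * (e.1.2)⁻¹
    rw [e.2.1 x, mul_inv_cancel_right]⟩
  -- kernel of `fst`: scalars
  have hker : ∀ z : E, fst z = 1 → ∃ c : ℂˣ, z.1.2 = CharExtend.sc n c := by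
    intro z hz
    have hx := z.2.1
    rw [show z.1.1 = 1 from hz, hρu] at hx
    obtain ⟨c, hc⟩ := CharExtend.intertwines_unique ρ hx (CharExtend.intertwines_one _)
    exact ⟨c, by rw [hc, mul_one]⟩
  have hcentral : ∀ z : E, fst z = 1 → z ∈ Subgroup.center E := by
    intro z hz
    rw [Subgroup.mem_center_iff]
    intro e
    obtain ⟨c, hc⟩ := hker z hz
    refine Subtype.ext (Prod.ext ?_ ?_)
    · show e.1.1 * z.1.1 = z.1.1 * e.1.1
      rw [show z.1.1 = 1 from hz, mul_one, one_mul]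
    · show e.1.2 * z.1.2 = z.1.2 * e.1.2
      rw [hc, CharExtend.sc_comm]
  let mk : E →* E ⧸ j.range := QuotientGroup.mk' j.range
  let f : E ⧸ j.range →* Γ ⧸ N := QuotientGroup.lift j.range ((QuotientGroup.mk' N).comp fst) (by
    rintro _ ⟨x, rfl⟩
    exact (QuotientGroup.eq_one_iff _).mpr x.2)
  have hf : Function.Surjective f := by
    intro q
    obtain ⟨g, rfl⟩ := QuotientGroup.mk_surjective q
    obtain ⟨e, rfl⟩ := hfst g
    exact ⟨mk e, rfl⟩
  obtain ⟨Z, hZ⟩ : ∃ Z, Z = f.ker := ⟨_, rfl⟩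
  have hZrep : ∀ z ∈ Z, ∃ e : E, fst e = 1 ∧ mk e = z := by
    intro z hz
    rw [hZ, MonoidHom.mem_ker] at hz
    obtain ⟨e, rfl⟩ := QuotientGroup.mk_surjective z
    have he : fst e ∈ N := (QuotientGroup.eq_one_iff _).mp hz
    refine ⟨e * (j ⟨fst e, he⟩)⁻¹, ?_, ?_⟩
    · rw [map_mul, map_inv]; exact mul_inv_cancel _
    · show QuotientGroup.mk (e * _) = QuotientGroup.mk e
      rw [QuotientGroup.mk_mul_of_mem]
      exact inv_mem ⟨_, rfl⟩
  have hZc : Z ≤ Subgroup.center (E ⧸ j.range) := by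
    intro z hz
    obtain ⟨e, he, rfl⟩ := hZrep z hz
    rw [Subgroup.mem_center_iff]
    intro q
    obtain ⟨e', rfl⟩ := QuotientGroup.mk_surjective q
    show mk e' * mk e = mk e * mk e'
    rw [← map_mul, ← map_mul, Subgroup.mem_center_iff.mp (hcentral e he) e']
  let π : E ⧸ j.range →* Γ ⧸ G := (QuotientGroup.map N G (MonoidHom.id Γ) hNG).comp f
  have hπ : Function.Surjective π := by
    intro q
    obtain ⟨g, rfl⟩ := QuotientGroup.mk_surjective q
    obtain ⟨q', hq'⟩ := hf (QuotientGroup.mk g)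
    exact ⟨q', by show (QuotientGroup.map N G (MonoidHom.id Γ) hNG) (f q') = _; rw [hq']; rfl⟩
  obtain ⟨B, hBdef⟩ : ∃ B, B = π.ker := ⟨_, rfl⟩
  haveI hBn : B.Normal := hBdef ▸ π.normal_ker
  have hmemB : ∀ e : E, mk e ∈ B ↔ fst e ∈ G := by
    intro e
    rw [hBdef, MonoidHom.mem_ker]
    exact QuotientGroup.eq_one_iff (fst e)
  have hZB : Z ≤ B := by
    intro z hz
    obtain ⟨e, he, rfl⟩ := hZrep z hz
    rw [hmemB, he]; exact one_mem G
  have hBi : B.index = G.index := by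
    rw [hBdef, Subgroup.index_ker, MonoidHom.range_eq_top.mpr hπ, Subgroup.card_top,
      Subgroup.index_eq_card]
  have hZBi : Z.relIndex B = N.relIndex G := by
    have h1 := Subgroup.relIndex_mul_index hZB
    have h2 := Subgroup.relIndex_mul_index hNG
    have h3 : Z.index = N.index := by
      rw [hZ, Subgroup.index_ker, MonoidHom.range_eq_top.mpr hf, Subgroup.card_top,
        Subgroup.index_eq_card]
    rw [hBi, h3, ← h2] at h1
    exact Nat.eq_of_mul_eq_mul_right (Nat.pos_of_ne_zero Subgroup.index_ne_zero_of_finite) h1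
  obtain ⟨H, hHn, hHB, hHcop, hBHZ, hHBcop⟩ := exists_hall_of_central B Z hZB hZc
    (by rw [hBi, hZBi]; exact hcop)
  haveI := hHn
  obtain ⟨S, hS⟩ := Subgroup.exists_right_complement'_of_coprime hHcop
  have hBsolv : Group.IsSolvable ((E ⧸ j.range) ⧸ B) :=
    Group.isSolvable_of_isSolvable_injective (f := QuotientGroup.lift B π (le_of_eq hBdef)) (by
      rw [← MonoidHom.ker_eq_bot_iff, eq_bot_iff]
      intro q hq
      obtain ⟨x, rfl⟩ := QuotientGroup.mk_surjective q
      rw [MonoidHom.mem_ker] at hq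
      exact (QuotientGroup.eq_one_iff x).mpr (hBdef ▸ hq))
  have hSsolv : Group.IsSolvable S := by
    let g : S →* (E ⧸ j.range) ⧸ B := (QuotientGroup.mk' B).comp S.subtype
    have hgk : ∀ s : S, s ∈ g.ker → (s : E ⧸ j.range) ∈ B := fun s hs =>
      (QuotientGroup.eq_one_iff _).mp hs
    haveI : Group.IsSolvable g.ker := by
      -- embeds into the image of `Z` in `(E ⧸ j.range) ⧸ H`, which is abelian
      refine isSolvable_of_comm fun a b => ?_
      have key : ∀ x : g.ker, ∃ h ∈ H, ∃ z ∈ Z, ((x : S) : E ⧸ j.range) = h * z := fun x => by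
        have := hBHZ (hgk x x.2)
        rw [Subgroup.mem_sup_of_normal_left] at this
        obtain ⟨h, hh, z, hz, e⟩ := this
        exact ⟨h, hh, z, hz, e.symm⟩
      obtain ⟨h1, hh1, z1, hz1, e1⟩ := key a
      obtain ⟨h2, hh2, z2, hz2, e2⟩ := key b
      have hmemH : ((a * b * (b * a)⁻¹ : g.ker) : S).1 ∈ H := by
        rw [← QuotientGroup.eq_one_iff]
        push_cast
        rw [e1, e2]
        simp only [QuotientGroup.mk_mul, QuotientGroup.mk_inv,
          (QuotientGroup.eq_one_iff h1).mpr hh1, (QuotientGroup.eq_one_iff h2).mpr hh2, one_mul]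
        rw [mul_inv_eq_one]
        exact congrArg (QuotientGroup.mk (s := H)) (Subgroup.mem_center_iff.mp (hZc hz2) z1)
      have h1 := Subgroup.disjoint_def.mp hS.disjoint hmemH ((a * b * (b * a)⁻¹ : g.ker) : S).2
      exact mul_inv_eq_one.mp (Subtype.ext (Subtype.ext h1))
    haveI : Group.IsSolvable ((E ⧸ j.range) ⧸ B) := hBsolv
    exact Group.isSolvable_of_ker_le_range g.ker.subtype g (by rw [Subgroup.range_subtype])
  haveI : Fintype (E ⧸ j.range) := Fintype.ofFinite _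
  haveI : Fintype H := Fintype.ofFinite H
  haveI : Fintype (Z ⊓ H : Subgroup (E ⧸ j.range)) := Fintype.ofFinite _
  -- the scalar character of `Z ⊓ H`
  have hLex : ∀ z : (Z ⊓ H : Subgroup (E ⧸ j.range)), ∃ c : ℂˣ, ∀ e : E, fst e = 1 →
      mk e = z → e.1.2 = CharExtend.sc n c := by
    intro z
    obtain ⟨e0, he0, hme0⟩ := hZrep z z.2.1
    obtain ⟨c, hc⟩ := hker e0 he0
    refine ⟨c, fun e he hme => ?_⟩
    have h : (QuotientGroup.mk e0 : E ⧸ j.range) = QuotientGroup.mk e := hme0.trans hme.symm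
    obtain ⟨x, hx⟩ := QuotientGroup.eq.mp h
    have hx1 : x = 1 := by
      refine Subtype.ext ?_
      show (x : Γ) = 1
      rw [show (x : Γ) = fst (j x) from rfl, hx, map_mul, map_inv, he0, he, inv_one, one_mul]
    rw [hx1, map_one, eq_comm, inv_mul_eq_one] at hx
    rw [← hx]; exact hc
  choose L hL using hLex
  let l : (Z ⊓ H : Subgroup (E ⧸ j.range)) →* ℂ :=
    { toFun := fun z => ((L z)⁻¹ : ℂˣ)
      map_one' := by
        have h := hL 1 1 (map_one fst) (by rw [map_one]; rfl)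
        rw [show ((1 : E) : Γ × CharExtend.EU n).2 = 1 from rfl, ← map_one (CharExtend.sc n)] at h
        rw [← CharExtend.sc_injective h, inv_one, Units.val_one]
      map_mul' := fun x y => by
        obtain ⟨ex, hex, hmx⟩ := hZrep x x.2.1
        obtain ⟨ey, hey, hmy⟩ := hZrep y y.2.1
        have h := hL (x * y) (ex * ey) (by rw [map_mul, hex, hey, one_mul])
          (by rw [map_mul, hmx, hmy]; rfl)
        rw [show ((ex * ey : E) : Γ × CharExtend.EU n).2 = ex.1.2 * ey.1.2 from rfl, hL x ex hex hmx,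
          hL y ey hey hmy, ← map_mul] at h
        rw [← CharExtend.sc_injective h, mul_inv, Units.val_mul] }
  have hl : IsIrrCharacter (Z ⊓ H : Subgroup (E ⧸ j.range)) (l : _ → ℂ) := isIrrCharacter_of_hom l
  have hZcomm : ∀ (s x : E ⧸ j.range), x ∈ Z → s * x * s⁻¹ = x := fun s x hx => by
    rw [Subgroup.mem_center_iff.mp (hZc hx) s, mul_inv_cancel_right]
  obtain ⟨η, hη, hηS⟩ := S4449.result H S (Z ⊓ H) (fun s _ h hh => hHn.conj_mem h hh s) inf_le_right
    (fun g _ x hx => by rw [hZcomm g x hx.1]; exact hx)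
    (fun s _ x hx => by rw [hZcomm s x hx.1]; exact hx)
    (hHcop.coprime_dvd_right (hS.symm.index_eq_card ▸ dvd_rfl)) hSsolv ⟨l, hl⟩ (fun s _ g g' hgg' => by
      have : g' = g := Subtype.ext (by rw [hgg', hZcomm s g g.2.1])
      rw [this])
  obtain ⟨η, k, σ, hσi, rfl⟩ := η
  haveI := hσi
  -- `η` is fixed by everything
  have hηinv : ∀ (q : E ⧸ j.range) (h : H), σ.character ⟨q * h * q⁻¹, hHn.conj_mem h h.2 q⟩ = σ.character h := by
    intro q h
    obtain ⟨⟨⟨y, hy⟩, ⟨s, hs⟩⟩, rfl⟩ := hS.2 q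
    have h1 : (⟨y * s * h * (y * s)⁻¹, hHn.conj_mem h h.2 (y * s)⟩ : H) =
        ⟨y, hy⟩ * ⟨s * h * s⁻¹, hHn.conj_mem h h.2 s⟩ * (⟨y, hy⟩ : H)⁻¹ := by
      ext; simp [mul_assoc]
    show σ.character (⟨y * s * h * (y * s)⁻¹, _⟩ : H) = _
    rw [h1, Representation.char_conj]
    exact hηS s hs h _ rfl
  -- `η` on the centre
  have hσcen : ∀ z : (Z ⊓ H : Subgroup (E ⧸ j.range)), σ ⟨z, z.2.2⟩ = l z • 1 := by
    have hsc : ∀ z : (Z ⊓ H : Subgroup (E ⧸ j.range)), ∃ c : ℂ, σ ⟨z, z.2.2⟩ = c • 1 := fun z =>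
      CharApp.exists_scalar_of_mem_center σ (Subgroup.mem_center_iff.mpr fun w =>
        Subtype.ext (Subgroup.mem_center_iff.mp (hZc z.2.1) w))
    choose a ha using hsc
    have hne : (1 : Module.End ℂ (Fin k → ℂ)) ≠ 0 := by
      intro h0
      have := Char.nontrivial_of_isIrreducible σ
      exact one_ne_zero h0
    let a' : (Z ⊓ H : Subgroup (E ⧸ j.range)) →* ℂ :=
      { toFun := a
        map_one' := smul_left_injective ℂ hne (by
          show a 1 • (1 : Module.End ℂ (Fin k → ℂ)) = (1 : ℂ) • 1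
          rw [one_smul, ← ha 1]; exact map_one σ)
        map_mul' := fun x y => smul_left_injective ℂ hne (by
          show a (x * y) • (1 : Module.End ℂ (Fin k → ℂ)) = (a x * a y) • 1
          rw [← ha (x * y)]
          refine (map_mul σ ⟨x, x.2.2⟩ ⟨y, y.2.2⟩).trans ?_
          rw [ha x, ha y, smul_mul_assoc, one_mul, smul_smul]) }
    intro z
    have hal : (a' : _ → ℂ) = (l : _ → ℂ) := by
      by_contra hne'
      refine hη ?_
      have : (fun z : (Z ⊓ H : Subgroup (E ⧸ j.range)) => σ.character ⟨z, z.2.2⟩) = (k : ℂ) • (a' : _ → ℂ) := by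
        funext z
        simp only [Representation.character, ha, map_smul, LinearMap.trace_one, Module.finrank_fin_fun,
          smul_eq_mul, Pi.smul_apply]
        exact mul_comm _ _
      show classInner (fun z : (Z ⊓ H : Subgroup (E ⧸ j.range)) => σ.character ⟨z, z.2.2⟩) l = 0
      rw [this, classInner_smul_left, classInner_irr_of_ne (isIrrCharacter_of_hom a') hl hne', mul_zero]
    rw [ha z, ← congrFun hal z]
    rfl
  -- the product on the preimage of `H`
  obtain ⟨K, hKdef⟩ : ∃ K, K = H.comap mk := ⟨_, rfl⟩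
  have hKmk : ∀ e : K, mk e ∈ H := fun e => hKdef ▸ e.2
  let mkK : K →* H := (mk.comp K.subtype).codRestrict H hKmk
  have hmkK : Function.Surjective mkK := by
    rintro ⟨q, hq⟩
    obtain ⟨e, rfl⟩ := QuotientGroup.mk_surjective q
    exact ⟨⟨e, by rw [hKdef]; exact hq⟩, rfl⟩
  have hKG : ∀ e : K, fst e ∈ G := fun e => (hmemB e).mp (hHB (hKmk e))
  let fK : K →* G := (fst.comp K.subtype).codRestrict G hKG
  have hfK : Function.Surjective fK := by
    rintro ⟨g, hg⟩
    obtain ⟨e, rfl⟩ := hfst g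
    have h := hBHZ ((hmemB e).mpr hg)
    rw [Subgroup.mem_sup_of_normal_left] at h
    obtain ⟨h', hh', z, hz, he⟩ := h
    obtain ⟨e', he', rfl⟩ := hZrep z hz
    refine ⟨⟨e * e'⁻¹, ?_⟩, Subtype.ext ?_⟩
    · rw [hKdef, Subgroup.mem_comap, map_mul, map_inv, ← he, mul_inv_cancel_right]
      exact hh'
    · show fst (e * e'⁻¹) = fst e
      rw [map_mul, map_inv, he', inv_one, mul_one]
  let R : Representation ℂ K (Fin n → ℂ) := snd.comp K.subtype
  haveI : Fintype K := Fintype.ofFinite K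
  have hjK : ∀ x : N, j x ∈ K := fun x => by
    rw [hKdef, Subgroup.mem_comap, show mk (j x) = 1 from (QuotientGroup.eq_one_iff _).mpr ⟨x, rfl⟩]
    exact one_mem H
  let jK : N →* K := j.codRestrict K hjK
  haveI : jK.range.Normal := ⟨by
    rintro _ ⟨x, rfl⟩ e
    obtain ⟨y, hy⟩ := hjn.conj_mem (j x) ⟨x, rfl⟩ (e : E)
    exact ⟨y, Subtype.ext hy⟩⟩
  haveI hRi : R.IsIrreducible := by
    have : Nontrivial (Fin n → ℂ) := CharApp.nontrivial_of_irr ρ
    refine CharApp.isIrreducible_of_forall_invariant R fun W hW => ?_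
    refine CharApp.eq_bot_or_top_of_invariant ρ W fun x v hv => ?_
    have h := hW (jK x) v hv
    rw [show R (jK x) = ρ x from by subst hρu; rfl] at h
    exact h
  have hRres : ∀ x : N, R.character (jK x) = ρ.character x := fun x => by subst hρu; rfl
  have hres : IsIrrCharacter jK.range (fun y : jK.range => R.character y) := by
    let eq : N ≃* jK.range := MonoidHom.ofInjective (fun x y h => hjinj (congrArg Subtype.val h))
    have h := Char.IsIrrCharacter.comp_equiv (Char.isIrrCharacter_character ρ) eq.symm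
    convert h using 1
    funext y
    obtain ⟨x, rfl⟩ := eq.surjective y
    rw [eq.symm_apply_apply]
    exact hRres x
  obtain ⟨ψ, hψdef⟩ : ∃ ψ : K → ℂ, ψ = fun e => R.character e * σ.character (mkK e) := ⟨_, rfl⟩
  have hmk1 : ∀ x : N, mkK (jK x) = 1 := fun x =>
    Subtype.ext ((QuotientGroup.eq_one_iff _).mpr ⟨x, rfl⟩)
  have hψirr : IsIrrCharacter K ψ := by
    rw [hψdef]
    refine CharApp.gallagher_irr jK.range (Char.isIrrCharacter_character R) hres
      (Char.IsIrrCharacter.comp_surjective (Char.isIrrCharacter_character σ) mkK hmkK) ?_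
    rintro ⟨_, x, rfl⟩
    show σ.character (mkK (jK x)) = σ.character (mkK 1)
    rw [hmk1, map_one]
  have hψker : ∀ e : K, fK e = 1 → ψ e = ψ 1 := by
    intro e he
    have he1 : fst (e : E) = 1 := congrArg Subtype.val he
    have hzH : mk (e : E) ∈ Z ⊓ H := by
      refine ⟨?_, hKmk e⟩
      rw [hZ]
      show mk (e : E) ∈ f.ker
      rw [MonoidHom.mem_ker]
      show (QuotientGroup.mk (fst (e : E)) : Γ ⧸ N) = 1
      rw [he1, QuotientGroup.mk_one]
    have hc := hL ⟨_, hzH⟩ e he1 rfl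
    have hσ1 : σ (mkK e) = l ⟨_, hzH⟩ • 1 := hσcen ⟨_, hzH⟩
    have hR1 : R e = ((L ⟨_, hzH⟩ : ℂˣ) : ℂ) • 1 := by
      show ((e : E).1.2 : Module.End ℂ (Fin n → ℂ)) = _
      rw [hc, CharExtend.sc_val]
    rw [hψdef]
    simp only [Representation.character, map_one R, map_one mkK, map_one σ, hσ1, hR1, map_smul,
      LinearMap.trace_one, smul_eq_mul]
    rw [show l ⟨_, hzH⟩ = (((L ⟨_, hzH⟩)⁻¹ : ℂˣ) : ℂ) from rfl]
    linear_combination ((Module.finrank ℂ (Fin n → ℂ) : ℂ) * (Module.finrank ℂ (Fin k → ℂ) : ℂ)) *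
      (L ⟨_, hzH⟩).mul_inv
  -- descend
  obtain ⟨d, τ, hτi, hτ⟩ := hψirr
  haveI := hτi
  have hτker : fK.ker ≤ MonoidHom.ker τ := by
    intro e he
    refine (Char.character_eq_finrank_iff τ e).1 ?_
    rw [hτ, hψker e he, ← hτ, Representation.char_one]
  have hτker' : fK.ker ≤ (MonoidHom.toHomUnits τ).ker := by
    intro e he
    refine MonoidHom.mem_ker.2 (Units.ext ?_)
    exact MonoidHom.mem_ker.1 (hτker he)
  obtain ⟨χ, hχdef⟩ : ∃ χ : Representation ℂ G (Fin d → ℂ),
      χ = (Units.coeHom (Module.End ℂ (Fin d → ℂ))).comp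
        (MonoidHom.liftOfSurjective fK hfK ⟨MonoidHom.toHomUnits τ, hτker'⟩) := ⟨_, rfl⟩
  have hχe : ∀ e : K, χ (fK e) = τ e := fun e => by
    rw [hχdef]
    exact congrArg Units.val (MonoidHom.liftOfRightInverse_comp_apply _ _ _ _ _)
  haveI hχi : χ.IsIrreducible := by
    have : Nontrivial (Fin d → ℂ) := CharApp.nontrivial_of_irr τ
    refine CharApp.isIrreducible_of_forall_invariant χ fun W hW => ?_
    exact CharApp.eq_bot_or_top_of_invariant τ W fun e v hv => by rw [← hχe]; exact hW _ v hv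
  have hval : ∀ e : K, χ.character (fK e) = ψ e := fun e => by
    rw [← hτ]; simp only [Representation.character, hχe]
  refine ⟨⟨χ.character, Char.isIrrCharacter_character χ⟩, ?_, ?_⟩
  · have h : (fun x : N => χ.character ⟨x, hNG x.2⟩) = (k : ℂ) • ρ.character := by
      funext x
      rw [show (⟨(x : Γ), hNG x.2⟩ : G) = fK (jK x) from rfl, hval, hψdef]
      show R.character (jK x) * σ.character (mkK (jK x)) = (k : ℂ) * ρ.character x
      rw [hRres, hmk1, Representation.char_one, Module.finrank_fin_fun, mul_comm]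
    show classInner (fun x : N => χ.character ⟨x, hNG x.2⟩) ρ.character ≠ 0
    rw [h, classInner_smul_left, classInner_irr_self (Char.isIrrCharacter_character ρ), mul_one]
    have hk := CharApp.finrank_pos_of_irr σ
    rw [Module.finrank_fin_fun] at hk
    exact Nat.cast_ne_zero.mpr hk.ne'
  · intro x g
    obtain ⟨e, rfl⟩ := hfst x
    obtain ⟨y, rfl⟩ := hfK g
    have hy : e * (y : E) * e⁻¹ ∈ K := by
      have h : mk (e * (y : E) * e⁻¹) ∈ H := by
        rw [map_mul, map_mul, map_inv]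
        exact hHn.conj_mem _ (hKmk y) _
      exact (SetLike.ext_iff.mp hKdef _).mpr h
    show χ.character (⟨fst e * (fK y : Γ) * (fst e)⁻¹, _⟩ : G) = χ.character (fK y)
    rw [show (⟨fst e * (fK y : Γ) * (fst e)⁻¹, hG.conj_mem _ (fK y).2 _⟩ : G) = fK ⟨_, hy⟩ from
      Subtype.ext (by show _ = fst (e * (y : E) * e⁻¹); rw [map_mul, map_mul, map_inv]; rfl),
      hval, hval, hψdef]
    show R.character _ * σ.character _ = R.character y * σ.character (mkK y)
    refine congrArg₂ (· * ·) ?_ ?_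
    · exact Representation.char_conj snd (y : E) e
    · rw [show mkK ⟨_, hy⟩ = ⟨mk e * (mkK y : E ⧸ j.range) * (mk e)⁻¹, hHn.conj_mem _ (mkK y).2 _⟩ from
        Subtype.ext (by show mk (e * (y : E) * e⁻¹) = _; rw [map_mul, map_mul, map_inv]; rfl)]
      exact hηinv (mk e) (mkK y)

end Cfsg.Agent.GlauberChar
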